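import Cfsg.Agent.Lib.Perm.Trans.ThreeDim.Nine.Five.Kernels
import Cfsg.Agent.Lib.Perm.Trans.ThreeDim.Nine.SU
import Cfsg.Agent.Lib.Perm.Trans.ThreeDim.Unip

/-!
# The blocks in characteristic five
-/

set_option autoImplicit false
set_option linter.all false

namespace CfsgLib.Perm.Trans.ThreeDim.Nine.Five

open scoped Matrix Kronecker
open Matrix Cfsg Cfsg.Geo CfsgLib.Perm.Asch CfsgLib.Perm.Trans CfsgLib.Perm.Trans.Unit CfsgLib.Perm.Trans.ThreeDim.Heis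

variable {F : Type*} [Field F] [Fintype F] [CharP F 5] (ω : Root F)

local notation "M3" => Matrix (Fin 3) (Fin 3) F
local notation "G3" => GL (Fin 3) F
local notation "M9" => Matrix I9 I9 F
local notation "Z3" => Subgroup.center (GL (Fin 3) F)
local notation "N3" => Subgroup.normalizer (gR ω : Set (GL (Fin 3) F))

/-- a transvection generates the special unitary group over `⟨D, S⟩` -/
theorem full_of_tv (hcard : Fintype.card F = 25) {M : Subgroup G3} (hM : M ≤ GU 3 F 5 ⊓ specialLinear (Fin 3) F)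
    (hR : gR ω ≤ M) {g : G3} (hg : g ∈ M) (hsq : ((g : M3) - 1) * ((g : M3) - 1) = 0) (hg1 : g ≠ 1) :
    M = GU 3 F 5 ⊓ specialLinear (Fin 3) F := by
  haveI := five_prime
  haveI : CharP M3 5 := matrix_charP 5
  have hg5 : g ^ 5 = 1 := Units.ext (by
    rw [Units.val_pow_eq_pow_val, show (g : M3) = ((g : M3) - 1) + 1 by abel, add_pow_char_of_commute 5 (Commute.one_right _),
      one_pow, show ((g : M3) - 1) ^ 5 = ((g : M3) - 1) * ((g : M3) - 1) * ((g : M3) - 1) ^ 3 by noncomm_ring, hsq,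
      zero_mul, zero_add, Units.val_one])
  have hnot : ¬ NoTv M := fun hno => (regular_data hno hg hg1 hg5).2 (by rw [pow_two]; exact hsq)
  unfold NoTv at hnot
  push Not at hnot
  obtain ⟨x, ψ, hx, hx0, hψ0⟩ := hnot
  have hcard' : Fintype.card F = 5 ^ 2 := by rw [hcard]; norm_num
  obtain ⟨C⟩ := ctx_of_card hcard'
  have hf : IsUnitaryForm C.bar (hermForm 3 F 5) := isUnitary_hermForm C
  have hiso : M ≤ isoU (hermForm 3 F 5) := fun g hg => (hM hg).1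
  obtain ⟨hxx, c, hc0, hc, rfl⟩ := unitary_form_of_has hf hiso hx hx0 hψ0
  have hall : ∀ d : F, C.bar d = -d → Has M x (d • hv hf x) := by
    intro d hd
    obtain ⟨k, hk⟩ := exists_natCast_of_pow_eq (p := 5) (x := d / c) (by
      rw [← C.bar_eq, map_div₀, hd, hc, neg_div_neg_eq])
    rw [show d = (k : F) * c by rw [← hk, div_mul_cancel₀ _ hc0]]
    clear hd hk
    induction k with
    | zero => rw [Nat.cast_zero, zero_mul, zero_smul]; exact has_zero_right x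
    | succ k ih => rw [Nat.cast_succ, add_mul, one_mul, add_smul]; exact ih.add_right hx
  have htv := hasTv_top_of_irreducible hf hiso (fun W hW => irreducible_of_gR_le ω hR W hW) hx0 hxx hall
  exact le_antisymm hM (isoU_inf_SL_le hf htv (Or.inr (by rw [hcard]; norm_num)))

variable {ω}
variable {G H : Subgroup (GL I9 F)}

/-- some block is full -/
theorem exists_full (hcard : Fintype.card F = 25) (c : Base ω (GU 3 F 5 ⊓ specialLinear (Fin 3) F) G)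
    (o : Over ω G H) (hN : ¬ ∀ g ∈ Ks H, ∀ x, g x ∈ N3) :
    ∃ x, blockImage H x = GU 3 F 5 ⊓ specialLinear (Fin 3) F := by
  have hfacts := fun x => blockImage_facts c o x
  have hdet : ∀ x, ∀ g ∈ blockImage H x, (g : M3).det = 1 := fun x g hg => c.det_U g ((hfacts x).2.2 hg)
  have hnext : ∀ x, ∀ a ∈ blockImage H x, a ∈ blockImage H (x + 1) := fun x a ha => by
    obtain ⟨g, hg, rfl⟩ := mem_blockImage.1 ha
    exact ⟨_, shift_mem_Ks o hg, by simp⟩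
  have hall : ∀ x y, ∀ a ∈ blockImage H x, a ∈ blockImage H y := fun x y a ha => by
    rcases (by decide : ∀ a b : Fin 3, a = b ∨ a = b + 1 ∨ a = b + 1 + 1) y x with rfl | rfl | rfl
    · exact ha
    · exact hnext _ a ha
    · exact hnext _ _ (hnext _ a ha)
  have hM2 : ¬ blockImage H 2 ≤ N3 := fun h => hN fun g hg x => h (hall x 2 _ ⟨g, hg, rfl⟩)
  obtain ⟨e, heK, he0, hex⟩ := exists_gauss_comm o
  -- blocks two of elements with another block trivial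
  obtain ⟨La, hLa⟩ : ∃ La : Fin 3 → Subgroup G3, La = fun i =>
      (Ks H ⊓ (Pi.evalMonoidHom (fun _ : Fin 3 => G3) i).ker).map (Pi.evalMonoidHom (fun _ : Fin 3 => G3) 2) :=
    ⟨_, rfl⟩
  have hLamem : ∀ i a, a ∈ La i ↔ ∃ g ∈ Ks H, g i = 1 ∧ g 2 = a := fun i a => by
    rw [hLa]; exact ⟨fun ⟨g, ⟨h1, h2⟩, h3⟩ => ⟨g, h1, h2, h3⟩, fun ⟨g, h1, h2, h3⟩ => ⟨g, ⟨h1, h2⟩, h3⟩⟩
  have hLan : ∀ i, ∀ u ∈ blockImage H 2, ∀ z ∈ La i, u * z * u⁻¹ ∈ La i := fun i u hu z hz => by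
    obtain ⟨g, hg, rfl⟩ := mem_blockImage.1 hu
    obtain ⟨k, hk, hk0, rfl⟩ := (hLamem i z).1 hz
    refine (hLamem i _).2 ⟨g * k * g⁻¹, (Ks H).mul_mem ((Ks H).mul_mem hg hk) ((Ks H).inv_mem hg), ?_, rfl⟩
    simp [hk0]
  have hLale : ∀ i, La i ≤ blockImage H 2 := fun i z hz => by
    obtain ⟨k, hk, -, rfl⟩ := (hLamem i z).1 hz
    exact ⟨k, hk, rfl⟩
  have ha2 : e 2 ∈ La 0 := (hLamem 0 _).2 ⟨e, heK, he0, rfl⟩
  have hb2 : e 1 ∈ La 1 := (hLamem 1 _).2 ⟨_, shift_mem_Ks o heK, by simpa using he0, by simp⟩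
  have hRb : gR ω ≤ La 1 := gR_le_of_noncentral ω (hLan 1 _ ((hfacts 2).1 (gD_mem ω))) (hLan 1 _ ((hfacts 2).1 (gS_mem ω)))
    (hLan 1 _ ((hfacts 2).2.1 0)) (hex 1 (by decide)).1 hb2 (hex 1 (by decide)).2
  obtain ⟨a, haL, ha5, ha1⟩ := exists_five ω (hdet 2) (hfacts 2).1 (hfacts 2).2.1 hM2 (hLale 0) (hLan 0) ha2
    (hex 2 (by decide)).2
  -- singles
  obtain ⟨L, hL⟩ : ∃ L : Subgroup G3, L = ((Ks H).comap (MonoidHom.mulSingle (fun _ : Fin 3 => G3) 2)) := ⟨_, rfl⟩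
  have hLmem : ∀ a, a ∈ L ↔ Pi.mulSingle (2 : Fin 3) a ∈ Ks H := fun a => by rw [hL]; rfl
  have hLle : L ≤ blockImage H 2 := fun z hz => ⟨_, (hLmem z).1 hz, by simp⟩
  have hLn : ∀ u ∈ blockImage H 2, ∀ z ∈ L, u * z * u⁻¹ ∈ L := fun u hu z hz => by
    obtain ⟨g, hg, rfl⟩ := mem_blockImage.1 hu
    rw [hLmem] at hz ⊢
    rw [show Pi.mulSingle (2 : Fin 3) (g 2 * z * (g 2)⁻¹) = g * Pi.mulSingle (2 : Fin 3) z * g⁻¹ by
      funext x
      by_cases hx : x = 2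
      · subst hx; simp
      · simp [hx]]
    exact (Ks H).mul_mem ((Ks H).mul_mem hg hz) ((Ks H).inv_mem hg)
  have hcomm : ∀ r ∈ gR ω, a * r * a⁻¹ * r⁻¹ ∈ L := fun r hr => by
    obtain ⟨g, hg, hg0, hg2⟩ := (hLamem 0 a).1 haL
    obtain ⟨k, hk, hk1, hk2⟩ := (hLamem 1 r).1 (hRb hr)
    rw [hLmem, show Pi.mulSingle (2 : Fin 3) (a * r * a⁻¹ * r⁻¹) = g * k * g⁻¹ * k⁻¹ by
      funext x
      fin_cases x
      · simp [hg0]
      · simp [hk1]
      · simp [hg2, hk2]]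
    exact (Ks H).mul_mem ((Ks H).mul_mem ((Ks H).mul_mem hg hk) ((Ks H).inv_mem hg)) ((Ks H).inv_mem hk)
  obtain ⟨x, hxL, hxZ⟩ : ∃ x ∈ L, x ∉ Z3 := by
    by_contra hno
    push Not at hno
    obtain ⟨i, j, hm⟩ := exists_monomial ω (hdet 2 a (hLale 0 haL)) (hno _ (hcomm _ (gD_mem ω))) (hno _ (hcomm _ (gS_mem ω)))
    have hmR : gS ^ i * gD ω ^ j ∈ gR ω := mul_mem (pow_mem (gS_mem ω) _) (pow_mem (gD_mem ω) _)
    obtain ⟨n, hn⟩ := eq_gZ_pow ω hm (hdet 2 _ (mul_mem (inv_mem ((hfacts 2).1 hmR)) (hLale 0 haL)))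
    have haR : a ∈ gR ω := by
      rw [← mul_inv_cancel_left (gS ^ i * gD ω ^ j) a, hn]
      exact mul_mem hmR (pow_mem (gZ_mem ω) _)
    refine ha1 ?_
    have := (pow_gcd_eq_one (a := a) (m := 5) (n := 3)).2 ⟨ha5, gR_cube ω haR⟩
    simpa using this
  obtain ⟨b, hbL, hb5, hb1⟩ := exists_five ω (hdet 2) (hfacts 2).1 (hfacts 2).2.1 hM2 hLle hLn hxL hxZ
  by_cases hsq : ((b : M3) - 1) * ((b : M3) - 1) = 0
  · exact ⟨2, full_of_tv ω hcard (hfacts 2).2.2 (hfacts 2).1 (hLle hbL) hsq hb1⟩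
  obtain ⟨α, hα⟩ : ∃ α, α = (b : M3) - 1 := ⟨_, rfl⟩
  rw [← hα] at hsq
  have hα3 : α ^ 3 = 0 := hα ▸ cube_zero hb5
  -- the single block at zero
  have hs0 : bd (Pi.mulSingle (0 : Fin 3) b) ∈ H := by
    have h := shift_mem_Ks o ((hLmem b).1 hbL)
    rw [show (fun x : Fin 3 => (Pi.mulSingle (2 : Fin 3) b : Fin 3 → G3) (x - 1)) = Pi.mulSingle 0 b by
      funext x; fin_cases x <;> simp [show (-1 : Fin 3) = 2 from rfl]] at h
    exact (mem_Ks.1 h).1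
  have hu : ((bd (Pi.mulSingle (0 : Fin 3) b) : GL I9 F) : M9) = 1 + Matrix.single 0 0 (1 : F) ⊗ₖ α := by
    ext ⟨x, i⟩ ⟨y, j⟩
    rw [bd_apply, hα]
    fin_cases x <;> fin_cases y <;>
      simp [Matrix.kroneckerMap_apply, Matrix.single_apply, Matrix.one_apply, Prod.ext_iff]
  have hPhiH : ∀ k, (l1 (gPhi ω k) : GL I9 F) ∈ H := fun k => o.l1_mem (o.Phi_mem k)
  have hu0 := conj_tensor (g := gPhi ω 0) hu
  have hu1 := conj_tensor (g := gPhi ω 1) hu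
  have hmem : ∀ k, l1 (gPhi ω k) * bd (Pi.mulSingle (0 : Fin 3) b) * (l1 (gPhi ω k))⁻¹ ∈ H := fun k =>
    mul_mem (mul_mem (hPhiH k) hs0) (inv_mem (hPhiH k))
  have hc := comm_tensor hα3 hu0 hu1
  obtain ⟨g, hg, hgsq, hg1⟩ := transvection_block ω o (A := α * α)
    (by rw [show α * α * (α * α) = α ^ 3 * α by noncomm_ring, hα3, zero_mul]) hsq
    (mul_mem (mul_mem (mul_mem (hmem 0) (hmem 1)) (inv_mem (hmem 0))) (inv_mem (hmem 1))) hc (x := 0) (by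
      have hinv : ∀ k, ((gPhi ω k)⁻¹ : G3) = gT * gPhi ω k := fun k =>
        inv_eq_of_mul_eq_one_right (by rw [← mul_assoc, gPhi_gT, mul_assoc, gPhi_sq, gT_sq])
      have h2 := two_ne (F := F)
      intro h0
      have hη : ω.η * ω.η = -3 := ω.η_sq
      have hη0 := ω.η_ne_zero
      obtain ⟨P', hP'⟩ : ∃ P' : M3, P' = (gPhi ω 0 : M3) * Matrix.single (0 : Fin 3) 0 (1 : F) * ((gPhi ω 0)⁻¹ : G3).val :=
        ⟨_, rfl⟩
      obtain ⟨Q', hQ'⟩ : ∃ Q' : M3, Q' = (gPhi ω 1 : M3) * Matrix.single (0 : Fin 3) 0 (1 : F) * ((gPhi ω 1)⁻¹ : G3).val :=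
        ⟨_, rfl⟩
      rw [← hP', ← hQ'] at h0
      have key : ω.η ^ 4 * (P' * Q' - Q' * P') 0 0 = 2 * (ω.μ - ω.μ * ω.μ) ∨
          ω.η ^ 4 * (P' * Q' - Q' * P') 0 0 = 2 * (ω.μ * ω.μ - ω.μ) := by
        rw [hP', hQ', hinv, hinv, Units.val_mul, Units.val_mul, val_gT, val_gPhi, val_gPhi, phim, phim]
        simp [tm, Matrix.mul_apply, Matrix.single_apply, Fin.sum_univ_three, Matrix.vecMul, dotProduct]
        first
        | (left; field_simp; grind [ω.cube, ω.eq])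
        | (right; field_simp; grind [ω.cube, ω.eq])
      rw [h0, mul_zero] at key
      rcases key with e | e
      · exact mul_ne_zero h2 (sub_ne_zero.2 ω.ne_sq) e.symm
      · exact mul_ne_zero h2 (sub_ne_zero.2 (Ne.symm ω.ne_sq)) e.symm)
  exact ⟨0, full_of_tv ω hcard (hfacts 0).2.2 (hfacts 0).1 ⟨g, hg, rfl⟩ hgsq hg1⟩

/-- the dichotomy of the blocks -/
theorem blocks_dichotomy5 (hcard : Fintype.card F = 25) (c : Base ω (GU 3 F 5 ⊓ specialLinear (Fin 3) F) G)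
    (o : Over ω G H) :
    (∀ g ∈ Ks H, ∀ x, g x ∈ N3) ∨ ∀ x, ∀ a ∈ GU 3 F 5 ⊓ specialLinear (Fin 3) F, bd (Pi.mulSingle x a) ∈ H := by
  by_cases hN : ∀ g ∈ Ks H, ∀ x, g x ∈ N3
  · exact Or.inl hN
  · obtain ⟨x, hx⟩ := exists_full hcard c o hN
    exact Or.inr (singles_of_full c o hx)

end CfsgLib.Perm.Trans.ThreeDim.Nine.Five
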