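import Cfsg.Agent.Lib.Perm.Trans.ThreeDim.Nine.Five.Lift

/-!
# The kernels of the parity parts in characteristic five
-/

set_option autoImplicit false
set_option linter.all false

namespace CfsgLib.Perm.Trans.ThreeDim.Nine.Five

open scoped Matrix Kronecker
open Matrix CfsgLib.Perm.Trans.ThreeDim.Heis

variable {F : Type*} [Field F] [Fintype F] [CharP F 5] {ω : Root F}
variable {U : Subgroup (GL (Fin 3) F)} {G H : Subgroup (GL I9 F)}

local notation "M3" => Matrix (Fin 3) (Fin 3) F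
local notation "G3" => GL (Fin 3) F
local notation "M9" => Matrix I9 I9 F
local notation "Z3" => Subgroup.center (GL (Fin 3) F)
local notation "N3" => Subgroup.normalizer (gR ω : Set (GL (Fin 3) F))

theorem two_ne : (2 : F) ≠ 0 := by exact_mod_cast natCast_ne (F := F) 2 (by norm_num)

/-- no unipotent with a parity projection -/
theorem no_parity_tensor (o : Over ω G H) (hN : ∀ g ∈ Ks H, ∀ x, g x ∈ N3) {α P : M3}
    (hP : P = om ∨ P = em) (hα : α ^ 3 = 0) {u : GL I9 F} (huH : u ∈ H) (hu : (u : M9) = 1 + P ⊗ₖ α) : α = 0 := by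
  have h2 := two_ne (F := F)
  have done : ∀ {A K : M3}, A * A = 0 → A ≠ 0 → ∀ {w : GL I9 F}, w ∈ H → (w : M9) = 1 + K ⊗ₖ A → K 1 1 ≠ 0 → False := by
    intro A K hA hA0 w hw e hK
    obtain ⟨g, hg, hsq, hne⟩ := transvection_block ω o hA hA0 hw e hK
    exact hne (transv_not_mem ω (hN g hg 1) hsq)
  by_contra hα0
  by_cases hsq : α * α = 0
  · refine done hsq hα0 huH hu ?_
    rcases hP with rfl | rfl <;> simp [om, em] <;> exact h2
  · have hD : (l1 (gD ω) : GL I9 F) ∈ H := o.l1_mem (o.R_mem _ (gD_mem ω))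
    have hv := conj_tensor (g := gD ω) hu
    have hc := comm_tensor hα hu hv
    refine done (A := α * α) (by rw [show α * α * (α * α) = α ^ 3 * α by noncomm_ring, hα, zero_mul]) hsq
      (mul_mem (mul_mem (mul_mem huH (mul_mem (mul_mem hD huH) (inv_mem hD))) (inv_mem huH))
        (inv_mem (mul_mem (mul_mem hD huH) (inv_mem hD)))) hc ?_
    have hinv : ((gD ω)⁻¹ : G3).val = dm (ω.μ * ω.μ) := by
      refine left_inv_eq_right_inv (a := (gD ω : M3)) (Units.inv_mul _) ?_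
      rw [val_gD, dm_mul, ← mul_assoc, ω.cube, dm_one]
    have key : (P * ((gD ω : M3) * P * ((gD ω)⁻¹ : G3).val) - (gD ω : M3) * P * ((gD ω)⁻¹ : G3).val * P) 1 1 =
        (2 : F)⁻¹ * (2 : F)⁻¹ * (ω.μ - ω.μ * ω.μ) := by
      rw [hinv, val_gD]
      rcases hP with rfl | rfl <;> simp [om, em, dm, Matrix.mul_apply, Matrix.vecMul, dotProduct, Fin.sum_univ_three, Matrix.vecMul_diagonal, Matrix.diagonal_apply] <;>
        grind [ω.cube, ω.eq]
    rw [key]
    exact mul_ne_zero (mul_ne_zero (inv_ne_zero h2) (inv_ne_zero h2)) (sub_ne_zero.2 ω.ne_sq)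

/-- a kernel -/
theorem kernel_trivial (c : Base ω U G) {L : Subgroup G3} (hdet : ∀ z ∈ L, (z : M3).det = 1)
    (hR : ∀ r ∈ gR ω, ∀ x ∈ L, r * x * r⁻¹ ∈ L) (hP : ∀ k, ∀ x ∈ L, gPhi ω k * x * (gPhi ω k)⁻¹ ∈ L)
    (hparts : ∀ z ∈ L, Commute z (gD ω) → (z : M3) 1 1 = 1 ∨ (z : M3) 1 1 + 1 = 0)
    (hfive : ∀ a ∈ L, a ^ 5 = 1 → a = 1) {b : G3} (hb : b ∈ L) : b = 1 := by
  haveI := five_prime
  have hμm : ω.μ + 1 ≠ 0 := fun h => c.two (by
    linear_combination (-(1 : F)) * ω.cube + (ω.μ * ω.μ - ω.μ + 1) * h)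
  have hLN : L ≤ N3 := le_normalizer_of_coprime ω hdet hR hP fun h5 => by
    obtain ⟨⟨a, haL⟩, ha⟩ := exists_prime_orderOf_dvd_card' 5 h5
    rw [← Subgroup.orderOf_coe] at ha
    obtain rfl : a = 1 := hfive a haL (ha ▸ pow_orderOf_eq_one a)
    simp at ha
  by_contra hb1
  by_cases hall : ∀ x ∈ L, x ∈ Z3
  · obtain ⟨k, hk⟩ := eq_gZ_pow ω (hall b hb) (hdet b hb)
    rcases hparts b hb (Subgroup.mem_center_iff.1 (hall b hb) (gD ω)).symm with h | h <;>
      rw [hk, val_gZ_pow, Matrix.smul_apply, Matrix.one_apply_eq, smul_eq_mul, mul_one] at h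
    · exact hb1 (Units.ext (by rw [hk, val_gZ_pow, h, one_smul, Units.val_one]))
    · have := ω.pow_cube k
      rw [eq_neg_of_add_eq_zero_left h] at this
      exact c.two (by linear_combination -this)
  push Not at hall
  obtain ⟨x, hx, hxZ⟩ := hall
  obtain ⟨r, hrR, hrL, hrZ⟩ : ∃ r, r ∈ gR ω ∧ r ∈ L ∧ r ∉ Z3 := by
    by_contra hno
    push Not at hno
    have hcom : ∀ s ∈ gR ω, x * s * x⁻¹ * s⁻¹ ∈ Z3 := fun s hs => hno _
      ((gR ω).mul_mem ((Subgroup.mem_normalizer_iff.1 (hLN hx) s).1 hs) ((gR ω).inv_mem hs))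
      (by rw [show x * s * x⁻¹ * s⁻¹ = x * (s * x⁻¹ * s⁻¹) by group]
          exact L.mul_mem hx (hR s hs _ (L.inv_mem hx)))
    obtain ⟨i, j, hm⟩ := exists_monomial ω (hdet x hx) (hcom _ (gD_mem ω)) (hcom _ (gS_mem ω))
    have hmR : gS ^ i * gD ω ^ j ∈ gR ω := mul_mem (pow_mem (gS_mem ω) _) (pow_mem (gD_mem ω) _)
    refine hxZ (hno x ?_ hx)
    obtain ⟨n, hn⟩ := eq_gZ_pow ω hm (by
      rw [Units.val_mul, Matrix.det_mul, det_of_mem_gR ω (inv_mem hmR), hdet x hx, mul_one])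
    rw [← mul_inv_cancel_left (gS ^ i * gD ω ^ j) x, hn]
    exact mul_mem hmR (pow_mem (gZ_mem ω) _)
  have hRL : gR ω ≤ L := gR_le_of_noncentral ω (hR _ (gD_mem ω)) (hR _ (gS_mem ω)) (hP 0) hrR hrL hrZ
  rcases hparts _ (hRL (gD_mem ω)) (Commute.refl _) with h | h <;> simp [val_gD, dm] at h
  · exact ω.ne_one h
  · exact hμm h

theorem conj_Kp (c : Base ω U G) (o : Over ω G H) {g : G3} (hg : (g, g) ∈ Kp c.two H) {w : G3 × G3}
    (hw : w ∈ Kp c.two H) : (g * w.1 * g⁻¹, g * w.2 * g⁻¹) ∈ Kp c.two H := by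
  obtain ⟨x, y⟩ := w
  have := mul_mem (mul_mem hg hw) (inv_mem hg)
  simpa using this

theorem snd_kernel5 (c : Base ω U G) (o : Over ω G H) (hN : ∀ g ∈ Ks H, ∀ x, g x ∈ N3) {b : G3}
    (hb : ((1 : G3), b) ∈ Kp c.two H) : b = 1 := by
  refine kernel_trivial c (L := (Kp c.two H).comap (MonoidHom.inr G3 G3)) (fun z hz => (mem_Kp.1 hz).2.2)
    (fun r hr x hx => ?_) (fun k x hx => ?_) (fun z hz hzD => ?_) (fun a ha ha5 => ?_) hb
  · simpa using conj_Kp c o (Kp_diag (o.R_mem r hr) (det_of_mem_gR ω hr)) hx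
  · simpa using conj_Kp c o (Kp_diag (o.Phi_mem k) (det_gPhi ω k)) hx
  · rcases parts_of_commute_gD c o hN (mem_Kp.1 hz).1 (Commute.one_left _) hzD 1 with h | h <;>
      simp only [Units.val_one, Matrix.one_apply_eq] at h
    · exact Or.inl h.symm
    · exact Or.inr (by rw [add_comm]; exact h)
  · refine Units.ext (sub_eq_zero.1 (no_parity_tensor o hN (Or.inl rfl) (cube_zero ha5) (mem_Kp.1 ha).1 ?_))
    show ((pr c.two (1, a) : GL I9 F) : M9) = _
    rw [val_pr, prM, Units.val_one, ← Matrix.one_kronecker_one (α := F) (m := Fin 3) (n := Fin 3), em_eq c.two]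
    ext ⟨x, i⟩ ⟨y, j⟩
    by_cases h1 : x = y <;> by_cases h2 : i = j <;> simp [Matrix.kroneckerMap_apply, Matrix.one_apply, Prod.ext_iff, h1, h2] <;> ring

theorem fst_kernel5 (c : Base ω U G) (o : Over ω G H) (hN : ∀ g ∈ Ks H, ∀ x, g x ∈ N3) {a : G3}
    (ha : (a, (1 : G3)) ∈ Kp c.two H) : a = 1 := by
  refine kernel_trivial c (L := (Kp c.two H).comap (MonoidHom.inl G3 G3)) (fun z hz => (mem_Kp.1 hz).2.1)
    (fun r hr x hx => ?_) (fun k x hx => ?_) (fun z hz hzD => ?_) (fun b hb hb5 => ?_) ha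
  · simpa using conj_Kp c o (Kp_diag (o.R_mem r hr) (det_of_mem_gR ω hr)) hx
  · simpa using conj_Kp c o (Kp_diag (o.Phi_mem k) (det_gPhi ω k)) hx
  · rcases parts_of_commute_gD c o hN (mem_Kp.1 hz).1 hzD (Commute.one_left _) 1 with h | h <;>
      simp only [Units.val_one, Matrix.one_apply_eq] at h
    · exact Or.inl h
    · exact Or.inr h
  · refine Units.ext (sub_eq_zero.1 (no_parity_tensor o hN (Or.inr rfl) (cube_zero hb5) (mem_Kp.1 hb).1 ?_))
    show ((pr c.two (b, 1) : GL I9 F) : M9) = _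
    rw [val_pr, prM, Units.val_one, ← Matrix.one_kronecker_one (α := F) (m := Fin 3) (n := Fin 3), em_eq c.two]
    ext ⟨x, i⟩ ⟨y, j⟩
    by_cases h1 : x = y <;> by_cases h2 : i = j <;> simp [Matrix.kroneckerMap_apply, Matrix.one_apply, Prod.ext_iff, h1, h2] <;> ring

end CfsgLib.Perm.Trans.ThreeDim.Nine.Five
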