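import Cfsg.Agent.Lib.Perm.Trans.ThreeDim.Nine.Five.Unip
import Cfsg.Agent.Lib.Perm.Trans.ThreeDim.Nine.SL

/-!
# Subgroups normalised by the frame have elements of order five or normalise `⟨D, S⟩`
-/

set_option autoImplicit false
set_option linter.all false

namespace CfsgLib.Perm.Trans.ThreeDim.Nine.Five

open scoped Matrix Pointwise
open Matrix CfsgLib.Perm.Trans.ThreeDim.Heis

variable {F : Type*} [Field F] [Fintype F] [CharP F 5] (ω : Root F)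

local notation "M3" => Matrix (Fin 3) (Fin 3) F
local notation "G3" => GL (Fin 3) F
local notation "Z3" => Subgroup.center (GL (Fin 3) F)
local notation "N3" => Subgroup.normalizer (gR ω : Set (GL (Fin 3) F))

theorem gPhi_mem (k : ℕ) : gPhi ω k ∈ gQ ω := by
  have e : gPhi ω k = gPhi ω (k % 3) := Units.ext (by
    rw [val_gPhi, val_gPhi, pow_eq_pow_mod k (show ω.μ ^ 3 = 1 by rw [pow_succ, sq]; exact ω.cube)])
  rw [e]
  exact gPhi_mem_Q ω _ (Nat.mod_lt _ (by norm_num))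

theorem frame_pow {q : G3} (hq : q ∈ gQ ω ⊔ gR ω) : q ^ 12 = 1 := by
  rw [← SetLike.mem_coe, Subgroup.coe_mul_of_left_le_normalizer_right _ _ (Q_le_normalizer ω)] at hq
  obtain ⟨w, hw, r, hr, rfl⟩ := hq
  have hw4 : w ^ 4 = 1 := by
    have hT := gT_sq (F := F)
    rw [show 4 = 2 * 2 from rfl, pow_mul, sq w]
    rcases Q_sq ω hw with e | e <;> rw [e, sq]
    · rw [one_mul]
    · exact hT
  have hn : ∀ n, ∃ r' ∈ gR ω, (w * r) ^ n = w ^ n * r' := fun n => by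
    induction n with
    | zero => exact ⟨1, one_mem _, by simp⟩
    | succ n ih =>
      obtain ⟨r', hr', e⟩ := ih
      refine ⟨w⁻¹ * r' * w * r, mul_mem ?_ hr, ?_⟩
      · have := (Subgroup.mem_normalizer_iff.1 (inv_mem (Q_le_normalizer ω hw)) r').1 hr'
        rwa [inv_inv] at this
      · rw [pow_succ, e, pow_succ]; group
  obtain ⟨r', hr', e⟩ := hn 4
  rw [hw4, one_mul] at e
  rw [show 12 = 4 * 3 from rfl, pow_mul, e, gR_cube ω hr']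

/-- subgroups of order prime to five normalised by the frame -/
theorem le_normalizer_of_coprime {L : Subgroup G3} (hdet : ∀ g ∈ L, (g : M3).det = 1)
    (hR : ∀ r ∈ gR ω, ∀ x ∈ L, r * x * r⁻¹ ∈ L) (hP : ∀ k, ∀ x ∈ L, gPhi ω k * x * (gPhi ω k)⁻¹ ∈ L)
    (h5 : ¬ 5 ∣ Nat.card L) : L ≤ N3 := by
  classical
  haveI := five_prime
  have hgen : ∀ a : G3, (∀ x ∈ L, a * x * a⁻¹ ∈ L) → a ∈ Subgroup.normalizer (L : Set G3) := fun a h => by
    rw [Subgroup.mem_normalizer_iff_map_conj_eq]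
    exact Subgroup.eq_of_le_of_card_ge (by rintro _ ⟨x, hx, rfl⟩; exact h x hx)
      (Subgroup.card_map_of_injective (MulAut.conj a).injective).ge
  have hle : gQ ω ⊔ gR ω ≤ Subgroup.normalizer (L : Set G3) := by
    refine sup_le ?_ fun r hr => hgen r (hR r hr)
    rw [gQ, Subgroup.closure_le]
    rintro _ (rfl | rfl) <;> exact hgen _ (hP _)
  obtain ⟨H', hH'⟩ : ∃ H', H' = (gQ ω ⊔ gR ω) ⊔ L := ⟨_, rfl⟩
  have hmem : ∀ g ∈ H', ∃ q ∈ gQ ω ⊔ gR ω, ∃ l ∈ L, g = q * l := fun g hg => by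
    rw [hH', ← SetLike.mem_coe, Subgroup.coe_mul_of_left_le_normalizer_right _ _ hle] at hg
    obtain ⟨q, hq, l, hl, e⟩ := hg
    exact ⟨q, hq, l, hl, e.symm⟩
  have h12 : ∀ g ∈ H', g ^ 12 ∈ L := fun g hg => by
    obtain ⟨q, hq, l, hl, rfl⟩ := hmem g hg
    have hn : ∀ n, ∃ l' ∈ L, (q * l) ^ n = q ^ n * l' := fun n => by
      induction n with
      | zero => exact ⟨1, one_mem _, by simp⟩
      | succ n ih =>
        obtain ⟨l', hl', e⟩ := ih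
        refine ⟨q⁻¹ * l' * q * l, mul_mem ?_ hl, ?_⟩
        · have := (Subgroup.mem_normalizer_iff.1 (inv_mem (hle hq)) l').1 hl'
          rwa [inv_inv] at this
        · rw [pow_succ, e, pow_succ]; group
    obtain ⟨l', hl', e⟩ := hn 12
    rw [e, frame_pow ω hq, one_mul]
    exact hl'
  have h5' : ¬ 5 ∣ Nat.card H' := fun h => by
    obtain ⟨⟨a, haH⟩, ha⟩ := exists_prime_orderOf_dvd_card' 5 h
    rw [← Subgroup.orderOf_coe] at ha
    have ha5 : a ^ 5 = 1 := ha ▸ pow_orderOf_eq_one a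
    have haL : a ∈ L := by
      have := L.pow_mem (h12 a haH) 3
      rwa [← pow_mul, show 12 * 3 = 5 * 7 + 1 from rfl, pow_succ, pow_mul, ha5, one_pow, one_mul] at this
    exact h5 (ha ▸ Subgroup.orderOf_dvd_natCard _ haL)
  have hdet' : ∀ g ∈ H', (g : M3).det = 1 := fun g hg => by
    have hle' : H' ≤ Cfsg.Geo.specialLinear (Fin 3) F := by
      rw [hH']
      refine sup_le (sup_le ?_ fun r hr => mem_SL.2 (det_of_mem_gR ω hr)) fun x hx => mem_SL.2 (hdet x hx)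
      rw [gQ, Subgroup.closure_le]
      rintro _ (rfl | rfl) <;> exact mem_SL.2 (det_gPhi ω _)
    exact mem_SL.1 (hle' hg)
  obtain ⟨ρ, hρ⟩ := CfsgLib.Char.LiftCoprime.exists_complex (F := F) (p := 5) five_prime.out h5'
    ((Units.coeHom M3).comp H'.subtype) (Units.val_injective.comp Subtype.val_injective)
  have h := le_normalizer_of_lift ω (by exact_mod_cast natCast_ne (F := F) 2 (by norm_num)) hdet'
    (hH' ▸ le_sup_of_le_left le_sup_right) (fun k => hH' ▸ Subgroup.mem_sup_left (Subgroup.mem_sup_left (gPhi_mem ω k)))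
    ρ.toHomUnits fun x y h => hρ (congrArg Units.val h)
  exact le_trans (hH' ▸ le_sup_right) h

/-- three-groups in the normalizer -/
theorem three_core {K : Subgroup G3} (hKN : K ≤ N3) (hdet : ∀ g ∈ K, (g : M3).det = 1) (hRK : gR ω ≤ K)
    (hP : ∀ x ∈ K, gPhi ω 0 * x * (gPhi ω 0)⁻¹ ∈ K) (h3 : IsPGroup 3 K) : K ≤ gR ω := by
  classical
  haveI : Fact (Nat.Prime 3) := ⟨Nat.prime_three⟩
  haveI := h3.isNilpotent
  have hconj : ∀ k ∈ K, ∀ c ∈ gR ω, c * k * c⁻¹ * k⁻¹ ∈ gR ω := fun k hk c hc => by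
    rw [show c * k * c⁻¹ * k⁻¹ = c * (k * c⁻¹ * k⁻¹) by group]
    exact mul_mem hc ((Subgroup.mem_normalizer_iff.1 (hKN hk) c⁻¹).1 (inv_mem hc))
  obtain ⟨P, hPd⟩ : ∃ P : ℕ → Prop, ∀ n, P n ↔
      ∃ (c : G3) (hc : c ∈ gR ω), c ∉ Z3 ∧ (⟨c, hRK hc⟩ : K) ∈ Subgroup.upperCentralSeries K n := ⟨_, fun n => Iff.rfl⟩
  have hex : ∃ n, P n := by
    obtain ⟨n, hn⟩ := Group.IsNilpotent.nilpotent (G := K)
    refine ⟨n, (hPd n).2 ⟨gD ω, gD_mem ω, ?_, hn ▸ Subgroup.mem_top _⟩⟩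
    rw [← nf_gD ω, nf_central]; omega
  have hsp := (hPd _).1 (Nat.find_spec hex)
  obtain ⟨c, hc, hcZ, hcu⟩ := hsp
  obtain ⟨m, hm⟩ : ∃ m, Nat.find hex = m + 1 := Nat.exists_eq_succ_of_ne_zero fun e => hcZ (by
    rw [e, Subgroup.upperCentralSeries_zero, Subgroup.mem_bot] at hcu
    rw [show c = 1 from congrArg Subtype.val hcu]; exact one_mem _)
  rw [hm, Subgroup.mem_upperCentralSeries_succ_iff] at hcu
  have hcC : ∀ k ∈ K, c * k * c⁻¹ * k⁻¹ ∈ Z3 := fun k hk => by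
    by_contra hno
    exact Nat.find_min hex (show m < Nat.find hex by omega) ((hPd m).2 ⟨_, hconj k hk c hc, hno, hcu ⟨k, hk⟩⟩)
  obtain ⟨C, hC⟩ : ∃ C : Subgroup G3, ∀ x, x ∈ C ↔ x ∈ gR ω ∧ ∀ k ∈ K, x * k * x⁻¹ * k⁻¹ ∈ Z3 := by
    refine ⟨{ carrier := {x | x ∈ gR ω ∧ ∀ k ∈ K, x * k * x⁻¹ * k⁻¹ ∈ Z3}
              mul_mem' := ?_
              one_mem' := ⟨one_mem _, fun k _ => by simp⟩
              inv_mem' := ?_ }, fun x => Iff.rfl⟩
    · rintro x y ⟨hx, hxk⟩ ⟨hy, hyk⟩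
      refine ⟨mul_mem hx hy, fun k hk => ?_⟩
      rw [show x * y * k * (x * y)⁻¹ * k⁻¹ = x * (y * k * y⁻¹ * k⁻¹) * x⁻¹ * (x * k * x⁻¹ * k⁻¹) by group]
      exact mul_mem ((inferInstance : (Z3).Normal).conj_mem _ (hyk k hk) x) (hxk k hk)
    · rintro x ⟨hx, hxk⟩
      refine ⟨inv_mem hx, fun k hk => ?_⟩
      have h := (inferInstance : (Z3).Normal).conj_mem _ (inv_mem (hxk k hk)) x⁻¹
      rwa [show x⁻¹ * (x * k * x⁻¹ * k⁻¹)⁻¹ * x⁻¹⁻¹ = x⁻¹ * k * x⁻¹⁻¹ * k⁻¹ by group] at h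
  have hinv : ∀ g, g ∈ N3 → (∀ x ∈ K, g⁻¹ * x * g ∈ K) → ∀ x ∈ C, g * x * g⁻¹ ∈ C := fun g hg hgK x hx => by
    obtain ⟨hxR, hxk⟩ := (hC x).1 hx
    refine (hC _).2 ⟨(Subgroup.mem_normalizer_iff.1 hg x).1 hxR, fun k hk => ?_⟩
    have h := (inferInstance : (Z3).Normal).conj_mem _ (hxk _ (hgK k hk)) g
    rwa [show g * (x * (g⁻¹ * k * g) * x⁻¹ * (g⁻¹ * k * g)⁻¹) * g⁻¹ = g * x * g⁻¹ * k * (g * x * g⁻¹)⁻¹ * k⁻¹ by group] at h
  have hPinv : ∀ x ∈ K, (gPhi ω 0)⁻¹ * x * gPhi ω 0 ∈ K := by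
    intro x hx
    have hmap : K.map (MulAut.conj (gPhi ω 0)).toMonoidHom = K :=
      Subgroup.eq_of_le_of_card_ge (by rintro _ ⟨y, hy, rfl⟩; exact hP y hy)
        (Subgroup.card_map_of_injective (MulAut.conj (gPhi ω 0)).injective).ge
    obtain ⟨y, hy, e⟩ := hmap.ge hx
    rw [← e]
    simpa [mul_assoc] using hy
  have hRN : gR ω ≤ N3 := Subgroup.le_normalizer
  have hle : gR ω ≤ C := gR_le_of_noncentral ω
    (hinv _ (hRN (gD_mem ω)) fun x hx => mul_mem (mul_mem (inv_mem (hRK (gD_mem ω))) hx) (hRK (gD_mem ω)))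
    (hinv _ (hRN (gS_mem ω)) fun x hx => mul_mem (mul_mem (inv_mem (hRK (gS_mem ω))) hx) (hRK (gS_mem ω)))
    (hinv _ (gPhi_mem_normalizer ω 0) hPinv) hc ((hC c).2 ⟨hc, hcC⟩) hcZ
  intro k hk
  have hk' : ∀ s ∈ gR ω, k * s * k⁻¹ * s⁻¹ ∈ Z3 := fun s hs => by
    have := inv_mem (((hC s).1 (hle hs)).2 k hk)
    rwa [show (s * k * s⁻¹ * k⁻¹)⁻¹ = k * s * k⁻¹ * s⁻¹ by group] at this
  obtain ⟨i, j, hm⟩ := exists_monomial ω (hdet k hk) (hk' _ (gD_mem ω)) (hk' _ (gS_mem ω))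
  have hmR : gS ^ i * gD ω ^ j ∈ gR ω := mul_mem (pow_mem (gS_mem ω) _) (pow_mem (gD_mem ω) _)
  obtain ⟨n, hn⟩ := eq_gZ_pow ω hm (hdet _ (mul_mem (inv_mem (hRK hmR)) hk))
  rw [← mul_inv_cancel_left (gS ^ i * gD ω ^ j) k, hn]
  exact mul_mem hmR (pow_mem (gZ_mem ω) _)

/-- noncentral normal subgroups outside the normalizer case have elements of order five -/
theorem exists_five {M L : Subgroup G3} (hdet : ∀ g ∈ M, (g : M3).det = 1) (hR : gR ω ≤ M) (hPhi : ∀ k, gPhi ω k ∈ M)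
    (hM : ¬ M ≤ N3) (hLM : L ≤ M) (hn : ∀ g ∈ M, ∀ x ∈ L, g * x * g⁻¹ ∈ L) {x : G3} (hx : x ∈ L) (hxZ : x ∉ Z3) :
    ∃ a ∈ L, a ^ 5 = 1 ∧ a ≠ 1 := by
  classical
  haveI := five_prime
  haveI : Fact (Nat.Prime 3) := ⟨Nat.prime_three⟩
  by_cases h5 : 5 ∣ Nat.card L
  · obtain ⟨⟨a, haL⟩, ha⟩ := exists_prime_orderOf_dvd_card' 5 h5
    rw [← Subgroup.orderOf_coe] at ha
    refine ⟨a, haL, ha ▸ pow_orderOf_eq_one a, fun e => ?_⟩
    simp [e] at ha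
  exfalso
  have hLN := le_normalizer_of_coprime ω (fun g hg => hdet g (hLM hg)) (fun r hr => hn r (hR hr))
    (fun k => hn _ (hPhi k)) h5
  obtain ⟨c, hcR, hcL, hcZ⟩ : ∃ c, c ∈ gR ω ∧ c ∈ L ∧ c ∉ Z3 := by
    by_contra hno
    push Not at hno
    have hcom : ∀ s ∈ gR ω, x * s * x⁻¹ * s⁻¹ ∈ Z3 := fun s hs => hno _
      ((gR ω).mul_mem ((Subgroup.mem_normalizer_iff.1 (hLN hx) s).1 hs) ((gR ω).inv_mem hs))
      (by rw [show x * s * x⁻¹ * s⁻¹ = x * (s * x⁻¹ * s⁻¹) by group]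
          exact L.mul_mem hx (hn s (hR hs) _ (L.inv_mem hx)))
    obtain ⟨i, j, hm⟩ := exists_monomial ω (hdet x (hLM hx)) (hcom _ (gD_mem ω)) (hcom _ (gS_mem ω))
    have hmR : gS ^ i * gD ω ^ j ∈ gR ω := mul_mem (pow_mem (gS_mem ω) _) (pow_mem (gD_mem ω) _)
    refine hxZ (hno x ?_ hx)
    obtain ⟨n, hn'⟩ := eq_gZ_pow ω hm (hdet _ (mul_mem (inv_mem (hR hmR)) (hLM hx)))
    rw [← mul_inv_cancel_left (gS ^ i * gD ω ^ j) x, hn']
    exact mul_mem hmR (pow_mem (gZ_mem ω) _)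
  have hRL : gR ω ≤ L := gR_le_of_noncentral ω (hn _ (hR (gD_mem ω))) (hn _ (hR (gS_mem ω))) (hn _ (hPhi 0)) hcR hcL hcZ
  obtain ⟨K, hK⟩ : ∃ K, K = Subgroup.closure {y | ∃ g ∈ M, ∃ r ∈ gR ω, y = g * r * g⁻¹} := ⟨_, rfl⟩
  have hKL : K ≤ L := by
    rw [hK, Subgroup.closure_le]
    rintro _ ⟨g, hg, r, hr, rfl⟩
    exact hn g hg r (hRL hr)
  have hRK : gR ω ≤ K := fun r hr => hK ▸ Subgroup.subset_closure ⟨1, one_mem _, r, hr, by simp⟩
  have hKc : ∀ g ∈ M, ∀ y ∈ K, g * y * g⁻¹ ∈ K := fun g hg y hy => by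
    rw [hK] at hy ⊢
    induction hy using Subgroup.closure_induction with
    | mem y hy =>
      obtain ⟨g', hg', r, hr, rfl⟩ := hy
      exact Subgroup.subset_closure ⟨g * g', mul_mem hg hg', r, hr, by group⟩
    | one => simp
    | mul a b _ _ ha hb => rw [← conj_mul]; exact mul_mem ha hb
    | inv a _ ha => rw [← conj_inv]; exact inv_mem ha
  have hR3 : IsPGroup 3 (gR ω) := fun r => ⟨1, Subtype.ext (by rw [SubgroupClass.coe_pow, pow_one]; exact gR_cube ω r.2)⟩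
  obtain ⟨P⟩ : Nonempty (Sylow 3 L) := inferInstance
  have hKP : K ≤ (P : Subgroup L).map L.subtype := by
    rw [hK, Subgroup.closure_le]
    rintro _ ⟨g, hg, r, hr, rfl⟩
    obtain ⟨N, hN⟩ : ∃ N : Subgroup L, N = ((gR ω).map (MulAut.conj g).toMonoidHom).subgroupOf L := ⟨_, rfl⟩
    have hmap : (gR ω).map (MulAut.conj g).toMonoidHom ≤ L := by
      rintro _ ⟨s, hs, rfl⟩; exact hn g hg s (hRL hs)
    have hN3 : IsPGroup 3 N := hN ▸ (hR3.map _).of_equiv (Subgroup.subgroupOfEquivOfLe hmap).symm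
    haveI hNn : N.Normal := ⟨fun y hy l => by
      rw [hN, Subgroup.mem_subgroupOf] at hy ⊢
      obtain ⟨s, hs, e⟩ := hy
      have hl' : g⁻¹ * (l : G3) * g ∈ N3 := by
        have := hLN (hn g⁻¹ (inv_mem hg) _ l.2)
        rwa [inv_inv] at this
      refine ⟨(g⁻¹ * l * g) * s * (g⁻¹ * l * g)⁻¹, (Subgroup.mem_normalizer_iff.1 hl' s).1 hs, ?_⟩
      rw [Subgroup.coe_mul, Subgroup.coe_mul, Subgroup.coe_inv, ← e]
      show g * _ * g⁻¹ = (l : G3) * (g * s * g⁻¹) * (l : G3)⁻¹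
      group⟩
    obtain ⟨Q, hQ⟩ := hN3.exists_le_sylow
    obtain ⟨h, rfl⟩ := MulAction.exists_smul_eq L Q P
    refine ⟨⟨g * r * g⁻¹, hn g hg r (hRL hr)⟩, ?_, rfl⟩
    have hNeq : MulAut.conj h • N ≤ ((h • Q : Sylow 3 L) : Subgroup L) := by
      rw [Sylow.coe_subgroup_smul]
      exact Subgroup.pointwise_smul_le_pointwise_smul_iff.2 hQ
    refine hNeq ?_
    rw [Subgroup.mem_pointwise_smul_iff_inv_smul_mem, ← map_inv]
    refine hNn.conj_mem _ ?_ h⁻¹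
    rw [hN, Subgroup.mem_subgroupOf]
    exact ⟨r, hr, rfl⟩
  have hK3 : IsPGroup 3 K := (P.2.map L.subtype).to_le hKP
  have hKR := three_core ω (hKL.trans hLN) (fun g hg => hdet g (hLM (hKL hg))) hRK (hKc _ (hPhi 0)) hK3
  refine hM fun g hg => ?_
  rw [Subgroup.mem_normalizer_iff_map_conj_eq]
  exact Subgroup.eq_of_le_of_card_ge (by rintro _ ⟨r, hr, rfl⟩; exact hKR (hKc g hg r (hRK hr)))
    (Subgroup.card_map_of_injective (MulAut.conj g).injective).ge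

end CfsgLib.Perm.Trans.ThreeDim.Nine.Five
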