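import Cfsg.Agent.Lib.Perm.Trans.ThreeDim.Nine.Five.Swap

/-!
# The odd block of two-elements in characteristic five
-/

set_option autoImplicit false
set_option linter.all false

namespace CfsgLib.Perm.Trans.ThreeDim.Nine.Five

open scoped Matrix Kronecker
open Matrix Cfsg Cfsg.Geo CfsgLib.Perm.Trans CfsgLib.Perm.Trans.Unit CfsgLib.Perm.Trans.ThreeDim.Heis

variable {F : Type*} [Field F] [Fintype F] [CharP F 5] {ω : Root F}
variable {U : Subgroup (GL (Fin 3) F)} {G H : Subgroup (GL I9 F)}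

local notation "M3" => Matrix (Fin 3) (Fin 3) F
local notation "G3" => GL (Fin 3) F
local notation "M9" => Matrix I9 I9 F
local notation "N3" => Subgroup.normalizer (gR ω : Set (GL (Fin 3) F))

/-- matrices commuting with the parity -/
theorem par_facts {A : M3} (hT : A * tm = tm * A) :
    A * (em : M3) = em * A ∧ A * (om : M3) = om * A ∧ A * (om : M3) = (A 1 1 - A 1 2) • om := by
  have h2 := two_ne (F := F)
  have he : ((2 : F)⁻¹ • (1 - tm) : M3) = em := by
    ext i j; fin_cases i <;> fin_cases j <;> simp [em, tm] <;> field_simp <;> norm_num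
  have e1 : A * (em : M3) = em * A := by
    rw [← he, Matrix.mul_smul, Matrix.smul_mul, mul_sub, sub_mul, mul_one, one_mul, hT]
  refine ⟨e1, ?_, ?_⟩
  · rw [show (om : M3) = 1 - em by rw [em_eq h2, sub_sub_cancel], mul_sub, sub_mul, mul_one, one_mul, e1]
  · have a01 := congrFun (congrFun hT 0) 1
    have a11 := congrFun (congrFun hT 1) 1
    have a12 := congrFun (congrFun hT 1) 2
    simp [tm, Matrix.mul_apply, Fin.sum_univ_three, Matrix.vecMul, dotProduct] at a01 a11 a12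
    ext i j
    fin_cases i <;> fin_cases j <;> simp [om, Matrix.mul_apply, Fin.sum_univ_three, Matrix.vecMul, dotProduct] <;> grind

/-- a normalizer element from conjugation on the constant blocks -/
theorem mem_normalizer_of_r1_conj (o : Over ω G H) (hN : ∀ g ∈ Ks H, ∀ x, g x ∈ N3) {g : G3} {k : GL I9 F}
    (hk : k ∈ H) (hconj : ∀ m, k * r1 m * k⁻¹ = r1 (g * m * g⁻¹)) : g ∈ N3 := by
  refine mem_normalizer_of_conj ω (M0 := H.comap r1 ⊓ specialLinear (Fin 3) F)
    (fun m hm => hN (fun _ => m) (mem_Ks.2 ⟨by rw [← r1_eq]; exact hm.1, fun _ => mem_SL.1 hm.2⟩) 0)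
    (fun r hr => ⟨o.R_mem r hr, mem_SL.2 (det_of_mem_gR ω hr)⟩) ⟨o.Phi_mem 0, mem_SL.2 (det_gPhi ω 0)⟩
    (fun m hm => mem_SL.1 hm.2) fun m hm => ⟨?_, mem_SL.2 ?_⟩
  · show r1 (g * m * g⁻¹) ∈ H
    rw [← hconj]
    exact mul_mem (mul_mem hk hm.1) (inv_mem hk)
  · rw [Units.val_mul, Units.val_mul, Matrix.det_mul, Matrix.det_mul, mem_SL.1 hm.2, mul_one, ← Matrix.det_mul,
      Units.mul_inv, Matrix.det_one]

/-- two-elements normalising both quaternion groups have a quaternion as odd block -/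
theorem oddShape5 (c : Base ω U (isoU (f9 (F := F) 5) ⊓ specialLinear I9 F))
    (o : Over ω (isoU (f9 (F := F) 5) ⊓ specialLinear I9 F) H) (hN : ∀ g ∈ Ks H, ∀ x, g x ∈ N3) : OddShape ω H := by
  classical
  intro h hh n hn hfix hfix' hl hr
  have h2 := c.two
  obtain ⟨hb, hhb⟩ : ∃ hb : Subgroup.centralizer ({l1 gT} : Set (GL I9 F)), hb = ⟨h, mem_cent hfix⟩ := ⟨_, rfl⟩
  have hv : ((hb : GL I9 F)) = h := by rw [hhb]
  obtain ⟨b, hbdef⟩ : ∃ b, b = obG hb := ⟨_, rfl⟩
  have hobb : (b : M3) = ob (h : M9) := by rw [hbdef, val_obG, hv]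
  have hbT : Commute b gT := by
    have h0 : Commute hb ⟨r1 gT, r1_mem_cent gT⟩ := Subtype.ext ?_
    · have h0' := h0.map obG
      rwa [obG_r1, ← hbdef] at h0'
    show (hb : GL I9 F) * r1 gT = r1 gT * (hb : GL I9 F)
    rw [hv]
    exact mul_inv_eq_iff_eq_mul.1 hfix'
  have hbQ' : ∀ q ∈ gQ ω, ∀ q', h * r1 q * h⁻¹ = r1 q' → b * q * b⁻¹ = q' := fun q hq q' e => by
    conv => lhs; rw [hbdef, ← obG_r1 q, ← map_inv, ← map_mul, ← map_mul]
    rw [show hb * ⟨r1 q, r1_mem_cent q⟩ * hb⁻¹ = (⟨r1 q', r1_mem_cent q'⟩ : Subgroup.centralizer ({l1 gT} : Set (GL I9 F)))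
      from Subtype.ext (by show (hb : GL I9 F) * r1 q * (hb : GL I9 F)⁻¹ = r1 q'; rw [hv]; exact e), obG_r1]
  have hbQ : ∀ q ∈ gQ ω, b * q * b⁻¹ ∈ gQ ω := fun q hq => by
    obtain ⟨q', hq', e⟩ := hr q hq
    rw [hbQ' q hq q' e]; exact hq'
  have hbn : b ^ 2 ^ n = 1 := by
    rw [hbdef, ← map_pow, show hb ^ 2 ^ n = 1 from Subtype.ext (by rw [SubgroupClass.coe_pow, hv]; exact hn), map_one]
  -- the second factor
  obtain ⟨h', hh'⟩ : ∃ h', h' = (r1 b)⁻¹ * h := ⟨_, rfl⟩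
  have hh'r : ∀ q ∈ gQ ω, Commute h' (r1 q) := fun q hq => by
    obtain ⟨q', hq', e⟩ := hr q hq
    refine mul_inv_eq_iff_eq_mul.1 ?_
    rw [hh', show (r1 b)⁻¹ * h * r1 q * ((r1 b)⁻¹ * h)⁻¹ = (r1 b)⁻¹ * (h * r1 q * h⁻¹) * r1 b by group, e,
      ← hbQ' q hq q' e]
    simp only [map_mul, map_inv]; group
  have hh'T : h' * l1 gT * h'⁻¹ = l1 gT := by
    rw [hh', show (r1 b)⁻¹ * h * l1 gT * ((r1 b)⁻¹ * h)⁻¹ = (r1 b)⁻¹ * (h * l1 gT * h⁻¹) * r1 b by group, hfix,
      mul_assoc, (l1_commute_r1 gT b).eq, inv_mul_cancel_left]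
  have hsw : ∀ A B : GL I9 F, Commute A B → Commute (sw * A * sw) (sw * B * sw) := fun A B hAB => by
    show sw * A * sw * (sw * B * sw) = sw * B * sw * (sw * A * sw)
    rw [show sw * A * sw * (sw * B * sw) = sw * A * (sw * sw) * B * sw by group,
      show sw * B * sw * (sw * A * sw) = sw * B * (sw * sw) * A * sw by group, sw_sq, mul_one, mul_one, mul_assoc sw,
      mul_assoc sw, hAB.eq]
    simp only [mul_assoc]
  obtain ⟨a, c', hab⟩ := exists_pr ω h2 (h := sw * h' * sw)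
    (by have := hsw _ _ (hh'r _ (gPhi_mem_Q ω 0 (by norm_num))); rwa [sw_r1] at this)
    (by have := hsw _ _ (hh'r _ (gPhi_mem_Q ω 1 (by norm_num))); rwa [sw_r1] at this)
  have hh'v : h' = sw * pr h2 (a, c') * sw := by
    rw [← hab, show sw * (sw * h' * sw) * sw = (sw * sw) * h' * (sw * sw) by group, sw_sq, one_mul, mul_one]
  -- the same conjugation on the quaternions
  have hconjQ : ∀ q ∈ gQ ω, ∀ q', h * l1 q * h⁻¹ = l1 q' → a * q * a⁻¹ = q' ∧ c' * q * c'⁻¹ = q' := by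
    intro q hq q' e
    have e1 : h' * l1 q * h'⁻¹ = l1 q' := by
      rw [hh', show (r1 b)⁻¹ * h * l1 q * ((r1 b)⁻¹ * h)⁻¹ = (r1 b)⁻¹ * (h * l1 q * h⁻¹) * r1 b by group, e,
        mul_assoc, (l1_commute_r1 q' b).eq, inv_mul_cancel_left]
    have e2 : pr h2 (a, c') * r1 q * (pr h2 (a, c'))⁻¹ = r1 q' := by
      rw [← hab, ← sw_l1 q, ← sw_l1 q', ← e1, _root_.mul_inv_rev, _root_.mul_inv_rev, sw_inv]
      calc sw * h' * sw * (sw * l1 q * sw) * (sw * (h'⁻¹ * sw))
          = sw * h' * (sw * sw) * l1 q * (sw * sw) * h'⁻¹ * sw := by group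
        _ = _ := by rw [sw_sq, mul_one, mul_one]; group
    rw [← pr_self h2, ← pr_self h2, ← map_inv, ← map_mul, ← map_mul] at e2
    exact Prod.mk.injEq _ _ _ _ ▸ pr_injective h2 e2
  have haT : Commute a gT ∧ Commute c' gT := by
    obtain ⟨h1, h1'⟩ := hconjQ _ (gT_mem_Q ω) gT hfix
    exact ⟨mul_inv_eq_iff_eq_mul.1 h1, mul_inv_eq_iff_eq_mul.1 h1'⟩
  have hvT : ((gT : G3) : M3) = tm := val_gT
  obtain ⟨a1, a2, a3⟩ := par_facts (A := (a : M3)) (by simpa [hvT] using congrArg Units.val haT.1.eq)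
  obtain ⟨c1, c2, c3⟩ := par_facts (A := (c' : M3)) (by simpa [hvT] using congrArg Units.val haT.2.eq)
  obtain ⟨b1, b2, b3⟩ := par_facts (A := (b : M3)) (by simpa [hvT] using congrArg Units.val hbT.eq)
  -- the odd values
  have hob' : ob (h' : M9) = 1 := by
    have hc' : h' ∈ Subgroup.centralizer ({l1 gT} : Set (GL I9 F)) := mem_cent hh'T
    have e : (⟨h', hc'⟩ : Subgroup.centralizer ({l1 gT} : Set (GL I9 F))) = ⟨r1 b, r1_mem_cent b⟩⁻¹ * hb :=
      Subtype.ext (by show h' = (r1 b)⁻¹ * (hb : GL I9 F); rw [hv, hh'])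
    have e2 := congrArg (fun g => (obG g : M3)) e
    rw [map_mul, map_inv, obG_r1, ← hbdef, inv_mul_cancel, Units.val_one, val_obG] at e2
    exact e2
  have hfa : (a : M3) 1 1 - (a : M3) 1 2 = 1 ∧ (c' : M3) 1 1 - (c' : M3) 1 2 = 1 := by
    have e0 := congrFun (congrFun hob' 0) 0
    have e1 := congrFun (congrFun hob' 1) 1
    have e2 := congrFun (congrFun hob' 1) 2
    simp only [ob_apply, hh'v, sw_conj_apply, val_pr, prM_apply] at e0 e1 e2
    simp [em, om, half_eq] at e0 e1 e2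
    refine ⟨e0, ?_⟩
    have h5 := five_eq (F := F)
    grind
  rw [hfa.1, one_smul] at a3
  rw [hfa.2, one_smul] at c3
  obtain ⟨j, hj⟩ : ∃ j, j = c'⁻¹ * a := ⟨_, rfl⟩
  have hjQ : ∀ q ∈ gQ ω, (j : M3) * (q : M3) = (q : M3) * (j : M3) := fun q hq => by
    obtain ⟨q', -, e⟩ := hl q hq
    obtain ⟨h1, h1'⟩ := hconjQ q hq q' e
    have : Commute j q := by
      refine mul_inv_eq_iff_eq_mul.1 ?_
      rw [hj, show c'⁻¹ * a * q * (c'⁻¹ * a)⁻¹ = c'⁻¹ * (a * q * a⁻¹) * c' by group, h1, ← h1']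
      group
    simpa using congrArg Units.val this.eq
  have hje := even_odd_of_commute (ω := ω) fun k hk => hjQ _ (gPhi_mem_Q ω k hk)
  obtain ⟨l, hldef⟩ : ∃ l, l = (j : M3) 0 0 := ⟨_, rfl⟩
  rw [← hldef] at hje
  have hjo : (j : M3) * (om : M3) = om := by
    rw [hj, Units.val_mul, mul_assoc, a3]
    conv_lhs => rw [← c3, ← mul_assoc, Units.inv_mul, one_mul]
  have hβ : (j : M3) 1 1 - (j : M3) 1 2 = 1 := by
    have hjT : (j : M3) * tm = tm * (j : M3) := by simpa [hvT] using hjQ _ (gT_mem_Q ω)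
    have e := congrFun (congrFun ((par_facts hjT).2.2.symm.trans hjo) 1) 1
    simp [om, half_eq] at e
    have h5 := five_eq (F := F)
    grind
  rw [hβ, one_smul] at hje
  -- the decomposition
  have hsym : sw * pr h2 (j, 1) * sw = (pr h2 (j, 1) : GL I9 F) := Units.ext (Matrix.ext fun ⟨x, i⟩ ⟨y, k⟩ => by
    rw [sw_conj_apply, val_pr, prM_apply, prM_apply, hje, Units.val_one, show (1 : M3) = em + om by rw [em_eq h2, sub_add_cancel]]
    simp only [Matrix.add_apply, Matrix.smul_apply, smul_eq_mul]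
    ring)
  have haj : a = c' * j := by rw [hj, mul_inv_cancel_left]
  have hhv : h = l1 c' * pr h2 (b * j, b) := by
    rw [← mul_inv_cancel_left (r1 b) h, ← hh', hh'v, haj, show ((c' * j, c') : G3 × G3) = (c', c') * (j, 1) by simp,
      map_mul, pr_self, show sw * (r1 c' * pr h2 (j, 1)) * sw = (sw * r1 c' * sw) * (sw⁻¹ * pr h2 (j, 1) * sw) by group,
      sw_inv, sw_r1, hsym, ← mul_assoc, ← (l1_commute_r1 c' b).eq, mul_assoc, ← pr_self h2 b, ← map_mul]
    simp
  have hcpr : ∀ w : G3 × G3, Commute (l1 c' : GL I9 F) (pr h2 w) := fun w => pr_commute_l1 h2 c1 c2 w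
  have hbj : Commute b j := Units.ext (by
    rw [Units.val_mul, Units.val_mul, hje, mul_add, add_mul, Matrix.mul_smul, Matrix.smul_mul, b1, b2])
  -- the order
  have hl2n : l ^ 2 ^ n = 1 := by
    have hjp : ∀ k : ℕ, (j : M3) ^ k = l ^ k • (em : M3) + om := fun k => by
      induction k with
      | zero => rw [pow_zero, pow_zero, one_smul, em_eq h2, sub_add_cancel]
      | succ k ih =>
        have eo : (em : M3) * om = 0 := by rw [em_eq h2, sub_mul, one_mul, om_mul_om h2, sub_self]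
        have oe : (om : M3) * em = 0 := by rw [em_eq h2, mul_sub, mul_one, om_mul_om h2, sub_self]
        have ee : (em : M3) * em = em := by
          conv_lhs => arg 2; rw [em_eq h2]
          rw [mul_sub, mul_one, eo, sub_zero]
        rw [pow_succ, ih, hje]
        simp [add_mul, mul_add, Matrix.smul_mul, Matrix.mul_smul, ee, eo, oe, om_mul_om h2, smul_smul, pow_succ, mul_comm]
    have e := hn
    rw [hhv, (hcpr _).mul_pow, ← map_pow, ← map_pow, Prod.pow_mk, hbj.mul_pow, hbn, one_mul] at e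
    have e' := inv_eq_of_mul_eq_one_right e
    rw [← map_inv] at e'
    have e0 := congrArg (fun w : GL I9 F => (w : M9) (0, 0) (0, 0)) e'
    have e1 := congrArg (fun w : GL I9 F => (w : M9) (0, 1) (0, 1)) e'
    simp only [l1_apply, val_pr, prM_apply, Units.val_pow_eq_pow_val, hjp, Units.val_one] at e0 e1
    simp [em, om, half_eq] at e0 e1
    have h5 := five_eq (F := F)
    grind
  -- the norms
  have hiso : ∀ x u y v, f9 5 ((h : M9) *ᵥ tens x u) ((h : M9) *ᵥ tens y v) = hermForm 3 F 5 x y * hermForm 3 F 5 u v :=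
    fun x u y v => (mem_isoU.1 (o.le hh).1 _ _).trans (f9_tens x y u v)
  have hval : ∀ x u, (h : M9) *ᵥ tens x u = tens ((c' : M3) *ᵥ ((em : M3) *ᵥ x)) (((b : M3) * (j : M3)) *ᵥ u) +
      tens ((c' : M3) *ᵥ ((om : M3) *ᵥ x)) ((b : M3) *ᵥ u) := fun x u => by
    rw [hhv, Units.val_mul, val_pr, val_l1, prM, mul_add, Matrix.add_mulVec, ← Matrix.mul_kronecker_mul,
      ← Matrix.mul_kronecker_mul, kron_mulVec, kron_mulVec, one_mul, one_mul, Matrix.mulVec_mulVec, Matrix.mulVec_mulVec,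
      Units.val_mul]
  have hto : ∀ u, (h : M9) *ᵥ tens ![0, 1, -1] u = tens ![0, 1, -1] ((b : M3) *ᵥ u) := fun u => by
    rw [hval, Matrix.mulVec_mulVec ![0, 1, -1] (c' : M3) (om : M3), c3]
    funext ⟨x, i⟩
    fin_cases x <;> simp [tens, em, om, half_eq, Matrix.mulVec, dotProduct, Fin.sum_univ_three] <;>
      grind [five_eq]
  have hte : ∀ u, (h : M9) *ᵥ tens ![1, 0, 0] u = tens ((c' : M3) *ᵥ ![1, 0, 0]) (((b : M3) * (j : M3)) *ᵥ u) := fun u => by
    rw [hval]
    funext ⟨x, i⟩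
    simp [tens, em, om, Matrix.mulVec, dotProduct, Fin.sum_univ_three]
  haveI := five_prime
  have hee : hermForm 3 F 5 ![1, 0, 0] ![1, 0, 0] = (1 : F) := by simp [hermForm, Fin.sum_univ_three]
  have hoo : hermForm 3 F 5 ![0, 1, -1] ![0, 1, -1] = (2 : F) := by
    simp [hermForm, Fin.sum_univ_three]; norm_num
  have hbu : ∀ u v, hermForm 3 F 5 ((b : M3) *ᵥ u) ((b : M3) *ᵥ v) = hermForm 3 F 5 u v := fun u v => by
    have e := hiso ![0, 1, -1] u ![0, 1, -1] v
    rw [hto, hto, f9_tens, hoo] at e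
    exact mul_left_cancel₀ h2 e
  have hje0 : (j : M3) *ᵥ ![1, 0, 0] = l • ![1, 0, 0] := by
    funext i; fin_cases i <;> simp [hje, em, om, Matrix.mulVec, dotProduct, Fin.sum_univ_three]
  have hjo' : (j : M3) *ᵥ ![0, 1, -1] = ![0, 1, -1] := by
    funext i; fin_cases i <;> simp [hje, em, om, half_eq, Matrix.mulVec, dotProduct, Fin.sum_univ_three] <;>
      grind [five_eq]
  have hce : hermForm 3 F 5 ((c' : M3) *ᵥ ![1, 0, 0]) ((c' : M3) *ᵥ ![1, 0, 0]) = 1 := by
    have e := hiso ![1, 0, 0] ![0, 1, -1] ![1, 0, 0] ![0, 1, -1]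
    rw [hte, f9_tens, ← Matrix.mulVec_mulVec, hjo', hbu, hee] at e
    exact mul_right_cancel₀ (show hermForm 3 F 5 ![0, 1, -1] ![0, 1, -1] ≠ (0 : F) by rw [hoo]; exact h2) e
  have hl6 : l ^ 6 = 1 := by
    have e := hiso ![1, 0, 0] ![1, 0, 0] ![1, 0, 0] ![1, 0, 0]
    rw [hte, f9_tens, ← Matrix.mulVec_mulVec, hje0, hbu, hce, hee] at e
    simp [hermForm, Fin.sum_univ_three] at e
    linear_combination e
  have hl2 : l * l = 1 := by
    have h3 := (pow_gcd_eq_one (a := l * l) (m := 3) (n := 2 ^ n)).2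
      ⟨by linear_combination hl6, by rw [mul_pow, hl2n, one_mul]⟩
    rwa [Nat.Coprime.gcd_eq_one (Nat.Coprime.pow_right n (by norm_num)), pow_one] at h3
  have hsq : (b * j) * (b * j) = b * b := by
    have hj2 : j * j = 1 := Units.ext (by
      have eo : (em : M3) * om = 0 := by rw [em_eq h2, sub_mul, one_mul, om_mul_om h2, sub_self]
      have oe : (om : M3) * em = 0 := by rw [em_eq h2, mul_sub, mul_one, om_mul_om h2, sub_self]
      have ee : (em : M3) * em = em := by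
        conv_lhs => arg 2; rw [em_eq h2]
        rw [mul_sub, mul_one, eo, sub_zero]
      rw [Units.val_mul, hje, Units.val_one]
      simp [add_mul, mul_add, Matrix.smul_mul, Matrix.mul_smul, ee, eo, oe, om_mul_om h2, smul_smul, hl2]
      rw [em_eq h2, sub_add_cancel])
    calc b * j * (b * j) = b * (j * b) * j := by group
      _ = b * b * (j * j) := by rw [← hbj.eq]; group
      _ = _ := by rw [hj2, mul_one]
  rcases mul_self_eq_one_iff.1 hl2 with hl1 | hl1
  · -- untwisted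
    have hj1 : j = 1 := Units.ext (by rw [hje, hl1, one_smul, em_eq h2, sub_add_cancel, Units.val_one])
    have hbN : b ∈ N3 := mem_normalizer_of_r1_conj o hN hh fun m => by
      rw [hhv, hj1, mul_one, pr_self, show l1 c' * r1 b * r1 m * (l1 c' * r1 b)⁻¹ =
        l1 c' * (r1 b * r1 m * (r1 b)⁻¹) * (l1 c')⁻¹ by group, ← map_inv, ← map_mul, ← map_mul,
        (l1_commute_r1 c' _).eq, mul_inv_cancel_right]
    obtain ⟨q, hq, s, hs⟩ := scalar_Q ω hbN hbT hbQ hbn
    exact ⟨q, hq, s, by rw [← hs, hobb]⟩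
  · -- twisted
    exfalso
    have hjT : j = gT := Units.ext (by
      rw [hje, hl1, hvT]
      ext i k
      fin_cases i <;> fin_cases k <;> simp [em, om, tm, half_eq] <;> grind [five_eq])
    have hb2 : b * b ∈ N3 := mem_normalizer_of_r1_conj o hN (mul_mem hh hh) fun m => by
      rw [hhv, show l1 c' * pr h2 (b * j, b) * (l1 c' * pr h2 (b * j, b)) = l1 c' * l1 c' * (pr h2 (b * j, b) * pr h2 (b * j, b)) by
        rw [mul_assoc, ← mul_assoc (pr h2 _), ← (hcpr _).eq]; group,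
        ← map_mul, ← map_mul, Prod.mk_mul_mk, hsq, pr_self, show l1 (c' * c') * r1 (b * b) * r1 m * (l1 (c' * c') * r1 (b * b))⁻¹ =
          l1 (c' * c') * (r1 (b * b) * r1 m * (r1 (b * b))⁻¹) * (l1 (c' * c'))⁻¹ by group,
        ← map_inv r1, ← map_mul r1, ← map_mul r1, (l1_commute_r1 (c' * c') _).eq, mul_inv_cancel_right]
    obtain ⟨q, hq, s, hs⟩ := scalar_Q ω hb2 (hbT.mul_left hbT) (fun q hq => by
        rw [show b * b * q * (b * b)⁻¹ = b * (b * q * b⁻¹) * b⁻¹ by group]; exact hbQ _ (hbQ q hq))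
      (n := n) (by rw [(Commute.refl b).mul_pow, hbn, one_mul])
    refine twist_false (c := c) o (fun a ha => fst_kernel5 c o hN ha) (b := b)
      ⟨hbT, hbQ, by rw [hbu, hee], by rw [hbu, hoo], ⟨q, hq, s, by rw [← hs, Units.val_mul]⟩, fun r hr' => mem_Kp.2 ⟨?_, ?_, ?_⟩⟩
    · have e : pr h2 (b * (gT * r * gT⁻¹) * b⁻¹, b * r * b⁻¹) = h * r1 r * h⁻¹ := by
        rw [hhv, hjT, show l1 c' * pr h2 (b * gT, b) * r1 r * (l1 c' * pr h2 (b * gT, b))⁻¹ =
          l1 c' * (pr h2 (b * gT, b) * r1 r * (pr h2 (b * gT, b))⁻¹) * (l1 c')⁻¹ by group,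
          ← pr_self h2 r, ← map_inv (pr h2), ← map_mul, ← map_mul, (hcpr _).eq, mul_inv_cancel_right]
        simp [mul_assoc]
      exact e ▸ mul_mem (mul_mem hh (o.R_mem r hr')) (inv_mem hh)
    all_goals
      have hd : ∀ g x : G3, ((g * x * g⁻¹ : G3) : M3).det = (x : M3).det := fun g x => by
        rw [Units.val_mul, Units.val_mul, Matrix.det_mul, Matrix.det_mul, mul_right_comm, ← Matrix.det_mul,
          Units.mul_inv, Matrix.det_one, one_mul]
      simp only [hd, det_of_mem_gR ω hr']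

end CfsgLib.Perm.Trans.ThreeDim.Nine.Five
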