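import Cfsg.Agent.Lib.Perm.Trans.ThreeDim.Nine.Five.Blocks
import Cfsg.Agent.Lib.Perm.Trans.ThreeDim.Nine.Five.Shape
import Cfsg.Agent.Lib.Perm.Trans.ThreeDim.Nine.SUClause

/-!
# Maximality over the field with twenty-five elements
-/

set_option autoImplicit false
set_option linter.all false

namespace CfsgLib.Perm.Trans.ThreeDim.Nine.Five

open scoped Matrix
open Matrix Cfsg Cfsg.Geo CfsgLib.Perm.Trans CfsgLib.Perm.Trans.Unit CfsgLib.Perm.Trans.ThreeDim.Heis
open CfsgLib.Perm.Elusive (mem_GU_of_diagonal)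

variable {F : Type*} [Field F] [Fintype F] [CharP F 5] (ω : Root F)

theorem su_base5 (hcard : Fintype.card F = 25) :
    Base ω (GU 3 F 5 ⊓ specialLinear (Fin 3) F) (isoU (f9 (F := F) 5) ⊓ specialLinear I9 F) := by
  haveI := five_prime
  have hodd : Odd 5 := by decide
  exact
  { two := two_ne
    det_U := fun g hg => mem_SL.1 hg.2
    R_le := fun g hg => ⟨gR_le_GU ω rfl hg, mem_SL.2 (det_of_mem_gR ω hg)⟩
    Phi_mem := fun k => ⟨gPhi_mem_GU ω (mu_pow ω rfl) k, mem_SL.2 (det_gPhi ω k)⟩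
    W_mem := fun g hg => ⟨mem_GU_of_diagonal hg fun i => by fin_cases i <;> simp [hodd.neg_one_pow],
      mem_SL.2 (by rw [hg, Matrix.det_diagonal, Fin.prod_univ_three]; simp)⟩
    simple := fun L hL hn hnc => su3_simple ω (by rw [hcard]; norm_num) rfl (by norm_num) hL hn hnc
    det_G := fun g hg => mem_SL.1 hg.2
    bd_mem := fun g hg hd x => ⟨(bd_mem_iso9 (by norm_num)).1 hg.1 x, mem_SL.2 (hd x)⟩
    pr_mem := fun a b h ha hb => by
      obtain ⟨h1, h2⟩ := pr_mem_iso9 _ (by norm_num) (neg_one_norm hodd) h.1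
      exact ⟨⟨h1, mem_SL.2 ha⟩, ⟨h2, mem_SL.2 hb⟩⟩ }

/-- the frame case for `p = 5` -/
theorem su9_frame_five (hcard : Fintype.card F = 25) :
    IsMaximalIn (isoU (f9 (F := F) 5) ⊓ specialLinear I9 F)
      (Subgroup.normalizer (R9 ω : Set (GL I9 F)) ⊓ (isoU (f9 (F := F) 5) ⊓ specialLinear I9 F)) := by
  haveI := five_prime
  have hcard' : Fintype.card F = 5 ^ 2 := by rw [hcard]; norm_num
  obtain ⟨a, ha, had, haN⟩ := su_witness ω hcard' (le_refl _)
  obtain ⟨C⟩ := ctx_of_card hcard'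
  have c := su_base5 ω hcard
  exact frame_maximal_of ω c (fun H o => (blocks_dichotomy5 hcard c o).imp
    (fun hN => ⟨fun a h => fst_kernel5 c o hN h, oddShape5 c o hN⟩) id)
    (su_hgen ω rfl (neg_one_norm (by decide))) (fun g hg x => su_hcomp hg x)
    (fun H hH hS hsw => full_SU C (by norm_num) hH hS hsw) ha had haN

end CfsgLib.Perm.Trans.ThreeDim.Nine.Five

namespace CfsgLib.Perm.Trans.ThreeDim.Nine

open Matrix Cfsg Cfsg.Geo CfsgLib.Perm.Trans CfsgLib.Perm.Trans.Unit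

/-- the clause for `p = 5` -/
theorem su9_symplectic_maximal_five {F : Type*} [Field F] [Fintype F] [CharP F 5] {R : Subgroup (GL (Fin 9) F)}
    (hcard : Fintype.card F = 5 ^ 2) (hsymp : IsSymplecticTypeGroup 3 R)
    (habs : ActsAbsolutelyIrreducibly (matrixSet R)) (hsim : R ≤ similarityGroup (hermForm 9 F 5))
    (h243 : Nat.card R = 243) (hZ : Nat.card (Subgroup.center R) = 3) :
    IsMaximalIn (GU 9 F 5 ⊓ specialLinear (Fin 9) F) (subgroupNormalizer R ⊓ (GU 9 F 5 ⊓ specialLinear (Fin 9) F)) :=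
  haveI := Five.five_prime
  su9_clause_of_frame hcard rfl hsymp habs hsim h243 hZ fun ω => Five.su9_frame_five ω (by rw [hcard]; norm_num)

end CfsgLib.Perm.Trans.ThreeDim.Nine
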