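import Cfsg.Agent.Lib.Perm.Trans.ThreeDim.Nine.Five.Kernels
import Cfsg.Agent.Lib.Perm.Trans.ThreeDim.Nine.SU

/-!
# No twisted normalizer element exchanges two classes of the quaternion group
-/

set_option autoImplicit false
set_option linter.all false

namespace CfsgLib.Perm.Trans.ThreeDim.Nine.Five

open scoped Matrix
open Matrix Cfsg Cfsg.Geo CfsgLib.Perm.Trans CfsgLib.Perm.Trans.ThreeDim.Heis

variable {F : Type*} [Field F] [Fintype F] [CharP F 5] (ω : Root F)
variable {U : Subgroup (GL (Fin 3) F)} {G H : Subgroup (GL I9 F)}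

local notation "M3" => Matrix (Fin 3) (Fin 3) F
local notation "G3" => GL (Fin 3) F
local notation "Z3" => Subgroup.center (GL (Fin 3) F)

theorem five_eq : (5 : F) = 0 := by exact_mod_cast CharP.cast_eq_zero F 5

theorem half_eq : (2 : F)⁻¹ = 3 := inv_eq_of_mul_eq_one_right (by linear_combination five_eq (F := F))

/-- the reflection exchanging two classes on the even part -/
def refl (c : F) : M3 :=
  !![0, c * c * (1 - ω.μ * ω.μ), c * c * (1 - ω.μ * ω.μ); c * (1 - ω.μ), 0, 0; c * (1 - ω.μ), 0, 0]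

/-- the exchanging involution -/
def bm (c : F) : M3 := refl ω c + om

theorem refl_facts {c : F} (hc : c * c * c = 1) :
    refl ω c * refl ω c = em ∧ refl ω c * om = 0 ∧ om * refl ω c = 0 := by
  have h5 := five_eq (F := F)
  refine ⟨?_, ?_, ?_⟩ <;> ext i j <;> fin_cases i <;> fin_cases j <;>
    simp [refl, em, om, half_eq, Matrix.mul_apply, Fin.sum_univ_three] <;> grind [ω.eq, ω.cube]

theorem bm_sq {c : F} (hc : c * c * c = 1) : bm ω c * bm ω c = 1 := by
  obtain ⟨h1, h2, h3⟩ := refl_facts ω hc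
  rw [bm, mul_add, add_mul, add_mul, h1, h2, h3, om_mul_om two_ne, em_eq two_ne]
  abel

theorem bm_phim {c : F} (hc : c * c * c = 1) :
    bm ω c * phim ω c = tm * phim ω (ω.μ * c) * bm ω c ∧
      bm ω c * phim ω (ω.μ * c) = tm * phim ω c * bm ω c := by
  have h5 := five_eq (F := F)
  simp only [phim, Matrix.mul_smul, Matrix.smul_mul]
  constructor <;> congr 1 <;> ext i j <;> fin_cases i <;> fin_cases j <;>
    simp [bm, refl, om, tm, half_eq, Matrix.mul_apply, Fin.sum_univ_three, Matrix.vecMul, dotProduct] <;>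
    grind [ω.eq, ω.cube]

/-! ### The classes -/

theorem phi_anti {a k : ℕ} (ha : a < 3) (hk : k < 3) (h : a ≠ k) :
    gPhi ω a * gPhi ω k = gT * (gPhi ω k * gPhi ω a) := by
  have h01 := gPhi01 ω
  have h10 := gPhi10 ω
  have hTT : ∀ x : G3, gT * (gT * x) = x := fun x => by rw [← mul_assoc, gT_sq, one_mul]
  have hT : ∀ (j : ℕ) (x : G3), gPhi ω j * (gT * x) = gT * (gPhi ω j * x) := fun j x => by
    rw [← mul_assoc, gPhi_gT, mul_assoc]
  have e01 : gPhi ω 0 * gPhi ω 1 = gT * (gPhi ω 1 * gPhi ω 0) := by rw [h10, hTT, h01]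
  have e02 : gPhi ω 0 * gPhi ω 2 = gT * gPhi ω 1 := by rw [← h01, ← mul_assoc, gPhi_sq]
  have e20 : gPhi ω 2 * gPhi ω 0 = gPhi ω 1 := by
    rw [← h01, mul_assoc, h10, hT, e02, hTT]
  have e21 : gPhi ω 2 * gPhi ω 1 = gT * gPhi ω 0 := by rw [← h01, mul_assoc, gPhi_sq, gPhi_gT]
  have e12 : gPhi ω 1 * gPhi ω 2 = gPhi ω 0 := by
    rw [show gPhi ω 2 = gT * (gPhi ω 1 * gPhi ω 0) by rw [h10, hTT], hT, ← mul_assoc (gPhi ω 1), gPhi_sq, hTT]
  interval_cases a <;> interval_cases k <;> first | exact absurd rfl h | skip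
  · exact e01
  · rw [e02, e20]
  · rw [h10, h01]
  · rw [e12, e21, hTT]
  · rw [e20, e02, hTT]
  · rw [e21, e12]

theorem phi_third (k : ℕ) (hk : k < 3) : gPhi ω ((k + 1) % 3) * gPhi ω ((k + 2) % 3) = gPhi ω k := by
  have h01 := gPhi01 ω
  have hTT : ∀ x : G3, gT * (gT * x) = x := fun x => by rw [← mul_assoc, gT_sq, one_mul]
  have hT : ∀ (j : ℕ) (x : G3), gPhi ω j * (gT * x) = gT * (gPhi ω j * x) := fun j x => by
    rw [← mul_assoc, gPhi_gT, mul_assoc]
  interval_cases k <;> norm_num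
  · rw [show gPhi ω 2 = gT * (gPhi ω 1 * gPhi ω 0) by rw [gPhi10, hTT], hT, ← mul_assoc (gPhi ω 1), gPhi_sq, hTT]
  · rw [← h01, mul_assoc, gPhi10, hT, ← h01, ← mul_assoc (gPhi ω 0), gPhi_sq, hTT]
  · exact h01

/-- the same class -/
def Cls (x : G3) (k : ℕ) : Prop := x = gPhi ω k ∨ x = gT * gPhi ω k

theorem phi_conj {a k : ℕ} (ha : a < 3) (hk : k < 3) (h : a ≠ k) :
    gPhi ω a * gPhi ω k * (gPhi ω a)⁻¹ = gT * gPhi ω k := by
  rw [phi_anti ω ha hk h, ← mul_assoc, mul_inv_cancel_right]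

theorem cls_inj {k l : ℕ} (hk : k < 3) (hl : l < 3) (h : Cls ω (gPhi ω k) l) : k = l := by
  have hη := ω.η_ne_zero
  have h5 := five_eq (F := F)
  have h2 := two_ne (F := F)
  rcases h with h | h <;> have e := congrArg (fun g : G3 => (g : M3) 1 0) h <;>
    simp [val_gPhi, Units.val_mul, val_gT, phim, tm, Matrix.mul_apply, Fin.sum_univ_three, Matrix.vecMul,
      dotProduct, hη] at e <;>
    interval_cases k <;> interval_cases l <;> first | rfl | (exfalso; simp at e) <;>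
    grind [ω.eq, ω.cube, ω.ne_one, ω.sq_ne_one, ω.ne_sq]

theorem Q_conj_phi {q : G3} (hq : q ∈ gQ ω) {k : ℕ} (hk : k < 3) : Cls ω (q * gPhi ω k * q⁻¹) k := by
  have hT : ∀ j, gT * gPhi ω j * (gT : G3)⁻¹ = gPhi ω j := fun j => by rw [← gPhi_gT, mul_inv_cancel_right]
  have hc : ∀ a, a < 3 → Cls ω (gPhi ω a * gPhi ω k * (gPhi ω a)⁻¹) k := fun a ha => by
    by_cases h : a = k
    · subst h; exact Or.inl (mul_inv_cancel_right _ _)
    · exact Or.inr (phi_conj ω ha hk h)
  rcases isQ_of_mem ω hq with rfl | rfl | ⟨a, ha, rfl | rfl⟩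
  · exact Or.inl (by simp)
  · exact Or.inl (hT k)
  · exact hc a ha
  · have e : gT * gPhi ω a * gPhi ω k * (gT * gPhi ω a)⁻¹ = gT * (gPhi ω a * gPhi ω k * (gPhi ω a)⁻¹) * gT⁻¹ := by group
    rw [e]
    rcases hc a ha with h | h <;> rw [h]
    · exact Or.inl (hT k)
    · exact Or.inr (by rw [mul_assoc gT, mul_assoc gT, ← mul_assoc gT (gPhi ω k), hT])

/-- signs can be changed inside the quaternion group -/
theorem flip {i j : ℕ} (hi : i < 3) (hj : j < 3) (hij : i ≠ j) {X Y X' Y' : G3} (hX : Cls ω X i) (hY : Cls ω Y j)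
    (hX' : Cls ω X' i) (hY' : Cls ω Y' j) : ∃ q ∈ gQ ω, q * X * q⁻¹ = X' ∧ q * Y * q⁻¹ = Y' := by
  have hfix : ∀ a, gPhi ω a * gPhi ω a * (gPhi ω a)⁻¹ = gPhi ω a := fun a => mul_inv_cancel_right _ _
  have hT : ∀ (q x : G3), Commute q gT → q * (gT * x) * q⁻¹ = gT * (q * x * q⁻¹) := fun q x h => by
    rw [← mul_assoc, h.eq]; group
  have hTT : ∀ x : G3, gT * (gT * x) = x := fun x => by rw [← mul_assoc, gT_sq, one_mul]
  -- flipping one class
  have one : ∀ a b, a < 3 → b < 3 → a ≠ b → ∀ Z W, Cls ω Z a → Cls ω W b →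
      gPhi ω a * Z * (gPhi ω a)⁻¹ = Z ∧ gPhi ω a * W * (gPhi ω a)⁻¹ = gT * W := fun a b ha hb h Z W hZ hW => by
    refine ⟨?_, ?_⟩
    · rcases hZ with rfl | rfl
      · exact hfix a
      · rw [hT _ _ (gPhi_gT ω a), hfix]
    · rcases hW with rfl | rfl
      · exact phi_conj ω ha hb h
      · rw [hT _ _ (gPhi_gT ω a), phi_conj ω ha hb h]
  have tgt : ∀ a Z Z', Cls ω Z a → Cls ω Z' a → Z' = Z ∨ Z' = gT * Z := fun a Z Z' h h' => by
    rcases h with rfl | rfl <;> rcases h' with rfl | rfl <;> simp [hTT]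
  obtain ⟨hi1, hi2⟩ := one i j hi hj hij X Y hX hY
  obtain ⟨hj1, hj2⟩ := one j i hj hi (Ne.symm hij) Y X hY hX
  rcases tgt i X X' hX hX' with rfl | rfl <;> rcases tgt j _ Y' hY hY' with rfl | rfl
  · exact ⟨1, one_mem _, by simp, by simp⟩
  · exact ⟨_, gPhi_mem_Q ω i hi, hi1, hi2⟩
  · exact ⟨_, gPhi_mem_Q ω j hj, hj2, hj1⟩
  · refine ⟨_, mul_mem (gPhi_mem_Q ω i hi) (gPhi_mem_Q ω j hj), ?_, ?_⟩
    · rw [show gPhi ω i * gPhi ω j * X * (gPhi ω i * gPhi ω j)⁻¹ =
        gPhi ω i * (gPhi ω j * X * (gPhi ω j)⁻¹) * (gPhi ω i)⁻¹ by group, hj2, hT _ _ (gPhi_gT ω i), hi1]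
    · rw [show gPhi ω i * gPhi ω j * Y * (gPhi ω i * gPhi ω j)⁻¹ =
        gPhi ω i * (gPhi ω j * Y * (gPhi ω j)⁻¹) * (gPhi ω i)⁻¹ by group, hj1, hi2]

/-! ### The pairs -/

variable {ω}

/-- the hypotheses on a twisted element -/
structure Twist (c : Base ω U G) (H : Subgroup (GL I9 F)) (b : G3) : Prop where
  comm : Commute b gT
  quat : ∀ q ∈ gQ ω, b * q * b⁻¹ ∈ gQ ω
  even : hermForm 3 F 5 ((b : M3) *ᵥ ![1, 0, 0]) ((b : M3) *ᵥ ![1, 0, 0]) = 1
  odd : hermForm 3 F 5 ((b : M3) *ᵥ ![0, 1, -1]) ((b : M3) *ᵥ ![0, 1, -1]) = 2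
  square : ∃ q ∈ gQ ω, ∃ s : F, (b : M3) * (b : M3) = s • (q : M3)
  pairs : ∀ r ∈ gR ω, (b * (gT * r * gT⁻¹) * b⁻¹, b * r * b⁻¹) ∈ Kp c.two H

theorem gQ_le_GU (ω : Root F) : gQ ω ≤ GU 3 F 5 := by
  haveI := five_prime
  rw [gQ, Subgroup.closure_le]
  rintro _ (rfl | rfl) <;> exact gPhi_mem_GU ω (mu_pow ω rfl) _

theorem Twist.mul_left {c : Base ω U G} {b : G3} (hb : Twist c H b) (o : Over ω G H) {q : G3} (hq : q ∈ gQ ω) :
    Twist c H (q * b) := by
  have hd : (q : M3).det = 1 := by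
    clear hb
    induction hq using Subgroup.closure_induction with
    | mem x hx => rcases hx with rfl | rfl <;> exact det_gPhi ω _
    | one => simp
    | mul x y _ _ hx hy => rw [Units.val_mul, Matrix.det_mul, hx, hy, one_mul]
    | inv x _ hx =>
      have : ((x⁻¹ : G3) : M3).det * (x : M3).det = 1 := by rw [← Matrix.det_mul, Units.inv_mul, Matrix.det_one]
      rwa [hx, mul_one] at this
  have hr1 : r1 q ∈ H := S9_le ω o (r1_mem_S9 ω hq)
  have hT := Q_commute_gT ω hq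
  refine ⟨hT.mul_left hb.comm, fun r hr => ?_, ?_, ?_, ?_, fun r hr => ?_⟩
  · rw [show q * b * r * (q * b)⁻¹ = q * (b * r * b⁻¹) * q⁻¹ by group]
    exact mul_mem (mul_mem hq (hb.quat r hr)) (inv_mem hq)
  · rw [Units.val_mul, ← Matrix.mulVec_mulVec]
    exact ((gQ_le_GU ω hq) _ _).trans hb.even
  · rw [Units.val_mul, ← Matrix.mulVec_mulVec]
    exact ((gQ_le_GU ω hq) _ _).trans hb.odd
  · obtain ⟨q0, hq0, s, hs⟩ := hb.square
    refine ⟨q * (b * q * b⁻¹) * q0, mul_mem (mul_mem hq (hb.quat q hq)) hq0, s, ?_⟩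
    rw [Units.val_mul (q * (b * q * b⁻¹)), ← Matrix.mul_smul, ← hs, Units.val_mul q b]
    conv_rhs => rw [← mul_assoc, Units.val_mul, Units.val_mul, Units.val_mul]
    simp [mul_assoc]
  · rw [show q * b * (gT * r * gT⁻¹) * (q * b)⁻¹ = q * (b * (gT * r * gT⁻¹) * b⁻¹) * q⁻¹ by group,
      show q * b * r * (q * b)⁻¹ = q * (b * r * b⁻¹) * q⁻¹ by group]
    have hp := conj_Kp c o (Kp_diag (h2 := c.two) hr1 hd) (hb.pairs r hr)
    exact hp

theorem even_odd_of_commute {B : M3} (h : ∀ k < 3, B * (gPhi ω k : M3) = (gPhi ω k : M3) * B) :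
    B = B 0 0 • em + (B 1 1 - B 1 2) • om :=
  eo_of_commute ω two_ne (by simpa [val_gPhi] using h 0 (by norm_num)) (by simpa [val_gPhi] using h 1 (by norm_num))

/-- the final contradiction from one relation -/
theorem twist_end {c : Base ω U G} (o : Over ω G H) (hfk : ∀ a, (a, (1 : G3)) ∈ Kp c.two H → a = 1) {b : G3}
    (hb : Twist c H b) {d : F} (hd : d ≠ 0) {M : M3} (hM : M * M = 1) (hbv : (b : M3) = d • M) {x r : G3}
    (hx : x ∈ gR ω) (hr : r ∈ gR ω) (hinv : gT * r * gT⁻¹ = r⁻¹)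
    (hsnd : (x : M3) * M * (r : M3) * M = M * ((r⁻¹ : G3) : M3) * M * ((x⁻¹ : G3) : M3))
    (hfst : (x : M3) * M * ((r⁻¹ : G3) : M3) * M ≠ M * (r : M3) * M * ((x⁻¹ : G3) : M3)) : False := by
  have hbi : ((b⁻¹ : G3) : M3) = d⁻¹ • M := left_inv_eq_right_inv (a := (b : M3)) (Units.inv_mul _) (by
    rw [hbv, Matrix.smul_mul, Matrix.mul_smul, hM, smul_smul, mul_inv_cancel₀ hd, one_smul])
  have hcj : ∀ g : G3, ((b * g * b⁻¹ : G3) : M3) = M * (g : M3) * M := fun g => by
    rw [Units.val_mul, Units.val_mul, hbv, hbi, Matrix.smul_mul, Matrix.smul_mul, Matrix.mul_smul, smul_smul,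
      mul_inv_cancel₀ hd, one_smul]
  have hp := mul_mem (Kp_diag (h2 := c.two) (o.R_mem x hx) (det_of_mem_gR ω hx)) (hb.pairs r hr)
  rw [hinv, Prod.mk_mul_mk] at hp
  have hval : ∀ g : G3, ((x * (b * g * b⁻¹) : G3) : M3) = (x : M3) * M * (g : M3) * M := fun g => by
    rw [Units.val_mul, hcj]; simp [mul_assoc]
  have hvi : ∀ g : G3, (((x * (b * g * b⁻¹))⁻¹ : G3) : M3) = M * ((g⁻¹ : G3) : M3) * M * ((x⁻¹ : G3) : M3) := fun g => by
    rw [_root_.mul_inv_rev, conj_inv, Units.val_mul, hcj]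
  have h2 : x * (b * r * b⁻¹) * (x * (b * r * b⁻¹)) = 1 :=
    mul_eq_one_iff_eq_inv.2 (Units.ext (by rw [hval, hvi]; exact hsnd))
  have h1 := hfk (x * (b * r⁻¹ * b⁻¹) * (x * (b * r⁻¹ * b⁻¹))) (by
    rw [← h2]
    simpa only [Prod.mk_mul_mk] using mul_mem hp hp)
  have e := congrArg Units.val (mul_eq_one_iff_eq_inv.1 h1)
  rw [hval, hvi, inv_inv] at e
  exact hfst e

/-- no twist exchanges classes -/
theorem twist_false {c : Base ω U G} (o : Over ω G H) (hfk : ∀ a, (a, (1 : G3)) ∈ Kp c.two H → a = 1) {b : G3}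
    (hb : Twist c H b) : False := by
  have h2 := two_ne (F := F)
  have h5 := five_eq (F := F)
  have hη := ω.η_ne_zero
  have hμ0 : ω.μ ≠ 0 := fun h => zero_ne_one (α := F) (by rw [← ω.cube, h, mul_zero])
  have hTv : ((gT : G3) : M3) = tm := val_gT
  -- the permutation of the classes
  have hcls : ∀ k : Fin 3, ∃ l : Fin 3, Cls ω (b * gPhi ω k * b⁻¹) l := fun k => by
    have hT : b * gT * b⁻¹ = gT := by rw [hb.comm.eq, mul_inv_cancel_right]
    have hsq : b * gPhi ω k * b⁻¹ * (b * gPhi ω k * b⁻¹) = gT := by rw [conj_mul, gPhi_sq, hT]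
    rcases isQ_of_mem ω (hb.quat _ (gPhi_mem_Q ω k k.isLt)) with e | e | ⟨l, hl, e⟩
    · rw [e, one_mul] at hsq; exact absurd hsq.symm (gT_ne_one h2)
    · rw [e, gT_sq] at hsq; exact absurd hsq.symm (gT_ne_one h2)
    · exact ⟨⟨l, hl⟩, e⟩
  choose s hs using hcls
  obtain ⟨q0, hq0, z, hz⟩ := hb.square
  have hcongr : ∀ {x : G3} {k l : ℕ}, k < 3 → l < 3 → Cls ω x k → Cls ω x l → k = l := fun {x k l} hk hl h h' => by
    refine cls_inj ω hk hl ?_
    rcases h with rfl | rfl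
    · exact h'
    · rcases h' with e | e
      · exact Or.inr (by rw [← e, ← mul_assoc, gT_sq, one_mul])
      · exact Or.inl (mul_left_cancel e)
  have hinvol : ∀ k, s (s k) = k := fun k => by
    have hconj : b * (b * gPhi ω k * b⁻¹) * b⁻¹ = q0 * gPhi ω k * q0⁻¹ := by
      rw [eq_mul_inv_iff_mul_eq]
      refine Units.ext ?_
      have hbb : ((b * b : G3) : M3) = z • (q0 : M3) := by rw [Units.val_mul]; exact hz
      have e : b * (b * gPhi ω k * b⁻¹) * b⁻¹ * (b * b) = b * b * gPhi ω k := by group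
      have e' := congrArg Units.val e
      rw [Units.val_mul _ (b * b), Units.val_mul _ (gPhi ω k), hbb, Matrix.mul_smul, Matrix.smul_mul] at e'
      have hz0 : z ≠ 0 := fun h => by
        rw [h, zero_smul] at hbb
        exact Units.ne_zero _ hbb
      rw [Units.val_mul _ q0, Units.val_mul q0]
      exact smul_right_injective M3 hz0 e'
    have h1 : Cls ω (b * (b * gPhi ω k * b⁻¹) * b⁻¹) (s (s k) : ℕ) := by
      rcases hs k with e | e <;> rw [e]
      · exact hs (s k)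
      · rcases hs (s k) with e' | e'
        · exact Or.inr (by rw [← mul_assoc b, hb.comm.eq, mul_assoc gT b, mul_assoc gT, e'])
        · exact Or.inl (by rw [← mul_assoc b, hb.comm.eq, mul_assoc gT b, mul_assoc gT, e', ← mul_assoc, gT_sq, one_mul])
    exact Fin.ext (hcongr (s (s k)).isLt k.isLt h1 (hconj ▸ Q_conj_phi ω hq0 k.isLt))
  have hcases : (∀ k, s k = k) ∨ ∃ k, s k = k + 1 ∧ s (k + 1) = k := by
    revert hinvol
    clear hs hcongr
    revert s
    decide
  rcases hcases with hid | ⟨k, hk, hk'⟩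
  · -- both classes fixed
    obtain ⟨q, hq, e0, e1⟩ := flip ω (show 0 < 3 by norm_num) (show 1 < 3 by norm_num) (by norm_num)
      (by simpa [hid] using hs 0) (by simpa [hid] using hs 1) (Or.inl rfl : Cls ω (gPhi ω 0) 0) (Or.inl rfl : Cls ω (gPhi ω 1) 1)
    have hb' := hb.mul_left o hq
    obtain ⟨b', hbd⟩ : ∃ b', b' = q * b := ⟨_, rfl⟩
    rw [← hbd] at hb'
    have hc0 : ∀ j, q * (b * gPhi ω j * b⁻¹) * q⁻¹ = gPhi ω j → (b' : M3) * phim ω (ω.μ ^ j) = phim ω (ω.μ ^ j) * (b' : M3) :=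
      fun j e => by
        rw [show q * (b * gPhi ω j * b⁻¹) * q⁻¹ = b' * gPhi ω j * b'⁻¹ by rw [hbd]; group, mul_inv_eq_iff_eq_mul] at e
        simpa [val_gPhi] using congrArg Units.val e
    have hB := eo_of_commute ω h2 (M := (b' : M3)) (by simpa using hc0 0 (by simpa using e0))
      (by simpa using hc0 1 (by simpa using e1))
    -- a scalar times an element of order at most two
    obtain ⟨q', hq', hbq⟩ : ∃ q' ∈ gQ ω, ∀ g : G3, q' * b' * g * (q' * b')⁻¹ = g := by
      obtain ⟨α, hα⟩ : ∃ α, α = (b' : M3) 0 0 := ⟨_, rfl⟩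
      obtain ⟨β, hβ⟩ : ∃ β, β = (b' : M3) 1 1 - (b' : M3) 1 2 := ⟨_, rfl⟩
      rw [← hα, ← hβ] at hB
      have he := hb'.even
      have ho := hb'.odd
      rw [hB] at he ho
      simp [hermForm, Fin.sum_univ_three, Matrix.mulVec, dotProduct, em, om, half_eq, Matrix.vecMul] at he ho
      have hβ6 : β ^ 6 = 1 := by grind
      have hα6 : α ^ 6 = 1 := by grind
      obtain ⟨q1, hq1, z, hz1⟩ := hb'.square
      rw [hB] at hz1
      have e10 := congrFun (congrFun hz1 1) 0
      have e00 := congrFun (congrFun hz1 0) 0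
      have e11 := congrFun (congrFun hz1 1) 1
      have e12 := congrFun (congrFun hz1 1) 2
      have hodd := Q_odd ω hq1
      simp [Matrix.mul_apply, Fin.sum_univ_three, em, om, half_eq] at e00 e10 e11 e12
      have hsq : α * α = β * β := by
        have hb2 : β * β = z := by linear_combination (norm := skip) e11 - e12 + z * hodd; ring_nf; grind
        have hz0 : z ≠ 0 := fun h => by
          rw [h, zero_smul, ← hB, ← Units.val_mul] at hz1
          exact Units.ne_zero _ hz1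
        have hq10 : (q1 : M3) 1 0 = 0 := e10.resolve_left hz0
        rcases isQ_of_mem ω hq1 with rfl | rfl | ⟨j, hj, rfl | rfl⟩
        · simp at e00; rw [e00, hb2]
        · exfalso
          simp [hTv, tm] at e00
          have : β ^ 6 = -(α ^ 6) := by
            rw [show β ^ 6 = (β * β) ^ 3 by ring, show α ^ 6 = (α * α) ^ 3 by ring, e00, hb2]; ring
          rw [hα6, hβ6] at this
          exact h2 (by linear_combination this)
        all_goals
          exfalso
          simp [val_gPhi, Units.val_mul, hTv, tm, phim, Matrix.mul_apply, Fin.sum_univ_three, hη, Matrix.vecMul,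
            dotProduct] at hq10
          exact hμ0 hq10.1
      rcases mul_self_eq_mul_self_iff.1 hsq with e | e
      · refine ⟨1, one_mem _, fun g => ?_⟩
        rw [one_mul, mul_inv_eq_iff_eq_mul]
        refine Units.ext ?_
        rw [Units.val_mul, Units.val_mul, hB, e, ← smul_add, em_eq h2, sub_add_cancel]
        simp
      · refine ⟨gT, gT_mem_Q ω, fun g => ?_⟩
        rw [mul_inv_eq_iff_eq_mul]
        refine Units.ext ?_
        have hT' : tm * (α • (em : M3) + β • om) = β • 1 := by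
          rw [e]
          ext i j
          fin_cases i <;> fin_cases j <;> simp [tm, em, om, half_eq, Matrix.mul_apply, Fin.sum_univ_three] <;> grind
        rw [Units.val_mul, Units.val_mul g, Units.val_mul, hB, hTv, hT']
        simp
    have hp := (hb'.mul_left o hq').pairs _ (gD_mem ω)
    rw [hbq, hbq] at hp
    have hdiag := Kp_diag (h2 := c.two) (o.R_mem _ (gD_mem ω)) (det_of_mem_gR ω (gD_mem ω))
    have h1 := hfk (gT * gD ω * gT⁻¹ * (gD ω)⁻¹) (by
      rw [← mul_inv_cancel (gD ω)]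
      simpa only [Prod.mk_mul_mk, Prod.inv_mk] using mul_mem hp (inv_mem hdiag))
    rw [gT_mul_gD, mul_inv_cancel_right, mul_inv_cancel_right] at h1
    exact ω.ne_one (by simpa [val_gD, dm] using congrArg (fun g : G3 => (g : M3) 1 1) h1)
  · -- two classes exchanged
    have hne : (k : ℕ) ≠ ((k + 1 : Fin 3) : ℕ) := fun e => by
      have : ∀ k : Fin 3, k ≠ k + 1 := by decide
      exact this k (Fin.ext e)
    have hsk := hs k
    have hsk' := hs (k + 1)
    rw [hk] at hsk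
    rw [hk'] at hsk'
    obtain ⟨q, hq, e0, e1⟩ := flip ω (k + 1 : Fin 3).isLt k.isLt (Ne.symm hne) hsk hsk'
      (Or.inr rfl : Cls ω (gT * gPhi ω ((k + 1 : Fin 3) : ℕ)) _) (Or.inr rfl : Cls ω (gT * gPhi ω (k : ℕ)) _)
    have hb' := hb.mul_left o hq
    obtain ⟨b', hbd⟩ : ∃ b', b' = q * b := ⟨_, rfl⟩
    rw [← hbd] at hb'
    obtain ⟨cc, hcc⟩ : ∃ cc, cc = ω.μ ^ (k : ℕ) := ⟨_, rfl⟩
    have hc3 : cc * cc * cc = 1 := hcc ▸ ω.pow_cube _
    have hcd : ω.μ ^ ((k + 1 : Fin 3) : ℕ) = ω.μ * cc := by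
      rw [hcc]; fin_cases k <;> simp <;> grind [ω.cube]
    have hmove : ∀ i j : ℕ, q * (b * gPhi ω i * b⁻¹) * q⁻¹ = gT * gPhi ω j →
        (b' : M3) * phim ω (ω.μ ^ i) = tm * phim ω (ω.μ ^ j) * (b' : M3) := fun i j e => by
      rw [show q * (b * gPhi ω i * b⁻¹) * q⁻¹ = b' * gPhi ω i * b'⁻¹ by rw [hbd]; group, mul_inv_eq_iff_eq_mul] at e
      simpa [val_gPhi, hTv] using congrArg Units.val e
    have m1 := hmove _ _ e0
    have m2 := hmove _ _ e1
    rw [hcd, ← hcc] at m1 m2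
    obtain ⟨n1, n2⟩ := bm_phim ω hc3
    have hbT : (b' : M3) * tm = tm * (b' : M3) := by simpa [hTv] using congrArg Units.val hb'.comm.eq
    have htt : (tm : M3) * tm = 1 := by simpa [hTv] using congrArg Units.val (gT_sq (F := F))
    have hcom : ∀ x y, (b' : M3) * x = tm * y * (b' : M3) → bm ω cc * y = tm * x * bm ω cc →
        (b' : M3) * bm ω cc * y = y * ((b' : M3) * bm ω cc) := fun x y h h' => by
      calc (b' : M3) * bm ω cc * y = (b' : M3) * tm * (x * bm ω cc) := by rw [mul_assoc, h']; simp [mul_assoc]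
        _ = tm * ((b' : M3) * x) * bm ω cc := by rw [hbT]; simp [mul_assoc]
        _ = tm * tm * (y * ((b' : M3) * bm ω cc)) := by rw [h]; simp [mul_assoc]
        _ = _ := by rw [htt, one_mul]
    have c1 := hcom _ _ m1 n2
    have c2 := hcom _ _ m2 n1
    obtain ⟨P, hP⟩ : ∃ P, P = (b' : M3) * bm ω cc := ⟨_, rfl⟩
    rw [← hP] at c1 c2
    have hk1 : ((k + 1 : Fin 3) : ℕ) = ((k : ℕ) + 1) % 3 := by rw [Fin.val_add]; rfl
    have hP' : ∀ j < 3, P * (gPhi ω j : M3) = (gPhi ω j : M3) * P := by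
      have a1 : P * (gPhi ω ((k : ℕ) % 3) : M3) = (gPhi ω ((k : ℕ) % 3) : M3) * P := by
        rw [Nat.mod_eq_of_lt k.isLt, val_gPhi, ← hcc]; exact c2
      have a2 : P * (gPhi ω (((k : ℕ) + 1) % 3) : M3) = (gPhi ω (((k : ℕ) + 1) % 3) : M3) * P := by
        rw [← hk1, val_gPhi, hcd]; exact c1
      have a3 : P * (gPhi ω (((k : ℕ) + 2) % 3) : M3) = (gPhi ω (((k : ℕ) + 2) % 3) : M3) * P := by
        have e := phi_third ω (((k : ℕ) + 2) % 3) (Nat.mod_lt _ (by norm_num))
        rw [show ((((k : ℕ) + 2) % 3) + 1) % 3 = (k : ℕ) % 3 by omega,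
          show ((((k : ℕ) + 2) % 3) + 2) % 3 = ((k : ℕ) + 1) % 3 by omega] at e
        rw [← e, Units.val_mul, ← mul_assoc, a1, mul_assoc, a2, mul_assoc]
      intro j hj
      rcases (show j = (k : ℕ) % 3 ∨ j = ((k : ℕ) + 1) % 3 ∨ j = ((k : ℕ) + 2) % 3 by omega) with rfl | rfl | rfl <;>
        assumption
    have hPe := even_odd_of_commute hP'
    obtain ⟨α, hα⟩ : ∃ α, α = P 0 0 := ⟨_, rfl⟩
    obtain ⟨β, hβ⟩ : ∃ β, β = P 1 1 - P 1 2 := ⟨_, rfl⟩
    rw [← hα, ← hβ] at hPe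
    obtain ⟨f1, f2, f3⟩ := refl_facts ω hc3
    have hbv : (b' : M3) = α • refl ω cc + β • om := by
      rw [show (b' : M3) = P * bm ω cc by rw [hP, mul_assoc, bm_sq ω hc3, mul_one], hPe, bm, add_mul, Matrix.smul_mul,
        Matrix.smul_mul, mul_add, mul_add, f3, em_eq h2, sub_mul, sub_mul, one_mul, one_mul, f3, om_mul_om h2, sub_zero,
        sub_self, zero_add, add_zero]
    have he := hb'.even
    have ho := hb'.odd
    rw [hbv] at he ho
    haveI := five_prime
    have hμ5 : ω.μ ^ 5 = ω.μ * ω.μ := mu_pow ω rfl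
    simp [hermForm, Fin.sum_univ_three, Matrix.mulVec, dotProduct, refl, om, half_eq, Matrix.vecMul] at he ho
    have hβ6 : β ^ 6 = 1 := by grind
    have hα6 : α ^ 6 = 1 := by grind [ω.eq, ω.cube]
    obtain ⟨q1, hq1, z, hz1⟩ := hb'.square
    rw [hbv, mul_add, add_mul, add_mul, Matrix.smul_mul, Matrix.smul_mul, Matrix.smul_mul, Matrix.smul_mul,
      Matrix.mul_smul, Matrix.mul_smul, Matrix.mul_smul, Matrix.mul_smul, f1, f2, f3, om_mul_om h2, smul_zero, smul_zero,
      smul_zero, add_zero, zero_add, smul_smul, smul_smul] at hz1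
    have e10 := congrFun (congrFun hz1 1) 0
    have e00 := congrFun (congrFun hz1 0) 0
    have e11 := congrFun (congrFun hz1 1) 1
    have e12 := congrFun (congrFun hz1 1) 2
    have hodd := Q_odd ω hq1
    simp [em, om, half_eq] at e00 e10 e11 e12
    have hb2 : β * β = z := by linear_combination (norm := skip) e11 - e12 + z * hodd; ring_nf; grind
    have hβ0 : β ≠ 0 := fun h => by simp [h] at hβ6
    have hsq : α * α = β * β := by
      have hq10 : (q1 : M3) 1 0 = 0 := e10.resolve_left (hb2 ▸ mul_ne_zero hβ0 hβ0)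
      rcases isQ_of_mem ω hq1 with rfl | rfl | ⟨j, hj, rfl | rfl⟩
      · simp at e00; rw [e00, hb2]
      · exfalso
        simp [hTv, tm] at e00
        have : β ^ 6 = -(α ^ 6) := by
          rw [show β ^ 6 = (β * β) ^ 3 by ring, show α ^ 6 = (α * α) ^ 3 by ring, e00, hb2]; ring
        rw [hα6, hβ6] at this
        exact h2 (by linear_combination this)
      all_goals
        exfalso
        simp [val_gPhi, Units.val_mul, hTv, tm, phim, Matrix.mul_apply, Fin.sum_univ_three, hη, Matrix.vecMul,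
          dotProduct] at hq10
        exact hμ0 hq10.1
    obtain ⟨q', hq', hq'b⟩ : ∃ q' ∈ gQ ω, ((q' * b' : G3) : M3) = β • bm ω cc := by
      rcases mul_self_eq_mul_self_iff.1 hsq with e | e
      · exact ⟨1, one_mem _, by rw [one_mul, hbv, e, bm, smul_add]⟩
      · refine ⟨gT, gT_mem_Q ω, ?_⟩
        rw [Units.val_mul, hTv, hbv, e]
        ext i j
        fin_cases i <;> fin_cases j <;>
          simp [tm, bm, refl, om, half_eq, Matrix.mul_apply, Fin.sum_univ_three] <;> grind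
    have hb'' := hb'.mul_left o hq'
    have hM := bm_sq ω hc3
    have hSi : gT * (gS * gS) * gT⁻¹ = (gS * gS : G3)⁻¹ := by
      rw [show gT * (gS * gS) * gT⁻¹ = (gT * gS * gT⁻¹) * (gT * gS * gT⁻¹) by group, gT_mul_gS, mul_inv_cancel_right]
      exact eq_inv_of_mul_eq_one_left (by
        have h : (gS : G3) ^ 3 = 1 := gS_pow_three
        calc gS * gS * (gS * gS) * (gS * gS) = (gS : G3) ^ 3 * gS ^ 3 := by
              simp only [pow_succ, pow_zero, one_mul, mul_assoc]
          _ = 1 := by rw [h, one_mul])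
    have hS' : gT * gS * gT⁻¹ = (gS : G3)⁻¹ := by
      rw [gT_mul_gS, mul_inv_cancel_right]
      exact eq_inv_of_mul_eq_one_left (by rw [← sq, ← pow_succ]; exact gS_pow_three)
    have hSv : ((gS⁻¹ : G3) : M3) = sm * sm := by
      rw [show (gS : G3)⁻¹ = gS * gS from inv_eq_of_mul_eq_one_right (by rw [← sq, ← pow_succ']; exact gS_pow_three),
        Units.val_mul, val_gS]
    have hSSv : (((gS * gS)⁻¹ : G3) : M3) = sm := by
      rw [show (gS * gS : G3)⁻¹ = gS from inv_eq_of_mul_eq_one_right (by rw [← sq, ← pow_succ]; exact gS_pow_three), val_gS]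
    have hDv : ((gD ω)⁻¹ : G3).val = dm (ω.μ * ω.μ) := by
      refine left_inv_eq_right_inv (a := (gD ω : M3)) (Units.inv_mul _) ?_
      rw [val_gD, dm_mul, ← mul_assoc, ω.cube, dm_one]
    have hne3 := ω.three
    fin_cases k <;> simp at hcc <;> subst hcc
    · refine twist_end o hfk hb'' hβ0 hM hq'b (gS_mem ω) (mul_mem (gS_mem ω) (gS_mem ω)) hSi ?_ fun e => ?_
      · rw [hSv, hSSv, Units.val_mul, val_gS]
        ext i j
        fin_cases i <;> fin_cases j <;>
          simp [bm, refl, om, sm, half_eq, Matrix.mul_apply, Fin.sum_univ_three, Matrix.vecMul, dotProduct] <;>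
          grind [ω.eq, ω.cube]
      · rw [hSv, hSSv, Units.val_mul, val_gS] at e
        have e' := congrFun (congrFun e 1) 0
        simp [bm, refl, om, sm, half_eq, Matrix.mul_apply, Fin.sum_univ_three, Matrix.vecMul, dotProduct] at e'
        grind [ω.eq, ω.cube]
    · refine twist_end o hfk hb'' hβ0 hM hq'b (gD_mem ω) (mul_mem (gS_mem ω) (gS_mem ω)) hSi ?_ fun e => ?_
      · rw [hDv, hSSv, Units.val_mul, val_gS, val_gD]
        ext i j
        fin_cases i <;> fin_cases j <;>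
          simp [bm, refl, om, sm, dm, half_eq, Matrix.mul_apply, Fin.sum_univ_three, Matrix.vecMul, dotProduct,
            Matrix.diagonal_apply] <;>
          grind [ω.eq, ω.cube]
      · rw [hDv, hSSv, Units.val_mul, val_gS, val_gD] at e
        have e' := congrFun (congrFun e 1) 0
        simp [bm, refl, om, sm, dm, half_eq, Matrix.mul_apply, Fin.sum_univ_three, Matrix.vecMul, dotProduct,
          Matrix.diagonal_apply] at e'
        grind [ω.eq, ω.cube, ω.ne_one]
    · refine twist_end o hfk hb'' hβ0 hM hq'b (gS_mem ω) (gS_mem ω) hS' ?_ fun e => ?_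
      · rw [hSv, val_gS]
        ext i j
        fin_cases i <;> fin_cases j <;>
          simp [bm, refl, om, sm, half_eq, Matrix.mul_apply, Fin.sum_univ_three, Matrix.vecMul, dotProduct] <;>
          grind [ω.eq, ω.cube]
      · rw [hSv, val_gS] at e
        have e' := congrFun (congrFun e 1) 0
        simp [bm, refl, om, sm, half_eq, Matrix.mul_apply, Fin.sum_univ_three, Matrix.vecMul, dotProduct] at e'
        grind [ω.eq, ω.cube]

end CfsgLib.Perm.Trans.ThreeDim.Nine.Five
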