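import Cfsg.Agent.Lib.Perm.Trans.ThreeDim.Nine.Max

/-!
# Unipotent elements in characteristic five
-/

set_option autoImplicit false
set_option linter.all false

namespace CfsgLib.Perm.Trans.ThreeDim.Nine.Five

open scoped Matrix Kronecker
open Matrix CfsgLib.Perm.Asch CfsgLib.Perm.Trans.ThreeDim.Heis

variable {F : Type*} [Field F] [Fintype F] [CharP F 5] (ω : Root F)

local notation "M3" => Matrix (Fin 3) (Fin 3) F
local notation "G3" => GL (Fin 3) F
local notation "M9" => Matrix I9 I9 F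
local notation "G9" => GL I9 F
local notation "Z3" => Subgroup.center (GL (Fin 3) F)
local notation "N3" => Subgroup.normalizer (gR ω : Set (GL (Fin 3) F))

theorem five_prime : Fact (Nat.Prime 5) := ⟨by norm_num⟩

theorem natCast_ne (n : ℕ) (h : ¬ 5 ∣ n) : (n : F) ≠ 0 := fun e => h ((CharP.cast_eq_zero_iff F 5 n).1 e)

theorem cube_zero {a : G3} (ha : a ^ 5 = 1) : ((a : M3) - 1) ^ 3 = 0 := by
  haveI := five_prime
  haveI : CharP M3 5 := matrix_charP 5
  have hnil : IsNilpotent ((a : M3) - 1) := ⟨5, by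
    rw [sub_pow_char_of_commute 5 (Commute.one_right _), one_pow, ← Units.val_pow_eq_pow_val, ha, Units.val_one, sub_self]⟩
  have h := Matrix.aeval_self_charpoly ((a : M3) - 1)
  rw [sub_eq_zero.1 (IsNilpotent.eq_zero (Matrix.isNilpotent_charpoly_sub_pow_of_isNilpotent hnil)),
    Polynomial.aeval_X_pow, Fintype.card_fin] at h
  exact h

theorem det_unip {A : M3} (hA : A * A = 0) (c : F) : (1 + c • A).det = 1 := by
  haveI := five_prime
  haveI : CharP M3 5 := matrix_charP 5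
  have h5 : (1 + c • A) ^ 5 = (1 : M3) := by
    rw [add_pow_char_of_commute 5 (Commute.one_left _), one_pow, smul_pow, show A ^ 5 = A * A * A ^ 3 by noncomm_ring,
      hA, zero_mul, smul_zero, add_zero]
  have e := congrArg Matrix.det h5
  rw [Matrix.det_pow, Matrix.det_one] at e
  have : ((1 + c • A).det - 1) ^ 5 = 0 := by rw [sub_pow_char, one_pow, e, sub_self]
  exact sub_eq_zero.1 (pow_eq_zero_iff (by norm_num) |>.1 this)

/-! ### Unipotents with a tensor factor -/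

theorem kron_mul (P Q A B : M3) : (P ⊗ₖ A) * (Q ⊗ₖ B) = (P * Q) ⊗ₖ (A * B) := (Matrix.mul_kronecker_mul P Q A B).symm

theorem kron_sub (P Q A : M3) : (P - Q) ⊗ₖ A = P ⊗ₖ A - Q ⊗ₖ A := by
  ext ⟨x, i⟩ ⟨y, j⟩; simp [Matrix.kroneckerMap_apply, sub_mul]

theorem comm_tensor {α P Q : M3} (hα : α ^ 3 = 0) {u v : G9} (hu : (u : M9) = 1 + P ⊗ₖ α)
    (hv : (v : M9) = 1 + Q ⊗ₖ α) : ((u * v * u⁻¹ * v⁻¹ : G9) : M9) = 1 + (P * Q - Q * P) ⊗ₖ (α * α) := by
  obtain ⟨w, hw⟩ : ∃ w, w = u * v * u⁻¹ * v⁻¹ := ⟨_, rfl⟩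
  have e : w * (v * u) = u * v := by rw [hw]; group
  have e' := congrArg Units.val e
  rw [Units.val_mul, Units.val_mul, Units.val_mul] at e'
  rw [← hw]
  refine (v * u).isUnit.mul_right_cancel ?_
  rw [Units.val_mul, e', hu, hv]
  have h3 : α * α * α = 0 := by rw [← hα]; noncomm_ring
  have h4 : α * α * (α * α) = 0 := by rw [← mul_assoc, h3, zero_mul]
  simp only [add_mul, mul_add, one_mul, mul_one, kron_sub, sub_mul, kron_mul, h3, h4, Matrix.kronecker_zero, add_zero,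
    sub_zero, zero_add]
  abel

theorem mul_tensor {A K L : M3} (hA : A * A = 0) {u v : G9} (hu : (u : M9) = 1 + K ⊗ₖ A)
    (hv : (v : M9) = 1 + L ⊗ₖ A) : ((u * v : G9) : M9) = 1 + (K + L) ⊗ₖ A := by
  rw [Units.val_mul, hu, hv, add_mul, one_mul, mul_add, mul_one, kron_mul, hA, Matrix.kronecker_zero, add_zero,
    Matrix.add_kronecker]
  abel

theorem conj_tensor {A K : M3} {g : G3} {u : G9} (hu : (u : M9) = 1 + K ⊗ₖ A) :
    ((l1 g * u * (l1 g)⁻¹ : G9) : M9) = 1 + ((g : M3) * K * ((g⁻¹ : G3) : M3)) ⊗ₖ A := by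
  rw [Units.val_mul, Units.val_mul, hu, mul_add, mul_one, add_mul, Units.mul_inv, ← map_inv, val_l1, val_l1, kron_mul,
    kron_mul, one_mul, mul_one]

variable {U : Subgroup (GL (Fin 3) F)} {G H : Subgroup (GL I9 F)}

/-- averaging over `D` gives a block transvection -/
theorem transvection_block (o : Over ω G H) {A K : M3} (hA : A * A = 0) (hA0 : A ≠ 0) {u : G9} (huH : u ∈ H)
    (hu : (u : M9) = 1 + K ⊗ₖ A) {x : Fin 3} (hx : K x x ≠ 0) :
    ∃ g ∈ Ks H, (((g x : G3) : M3) - 1) * ((g x : M3) - 1) = 0 ∧ g x ≠ 1 := by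
  have hD : (l1 (gD ω) : G9) ∈ H := o.l1_mem (o.R_mem _ (gD_mem ω))
  obtain ⟨v, hv⟩ : ∃ v, v = l1 (gD ω) * u * (l1 (gD ω))⁻¹ := ⟨_, rfl⟩
  obtain ⟨w, hw⟩ : ∃ w, w = l1 (gD ω) * v * (l1 (gD ω))⁻¹ := ⟨_, rfl⟩
  have hvH : v ∈ H := hv ▸ mul_mem (mul_mem hD huH) (inv_mem hD)
  have hwH : w ∈ H := hw ▸ mul_mem (mul_mem hD hvH) (inv_mem hD)
  have ev := conj_tensor (g := gD ω) hu
  rw [← hv] at ev
  have ew := conj_tensor (g := gD ω) ev
  rw [← hw] at ew
  have e := mul_tensor hA (mul_tensor hA hu ev) ew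
  obtain ⟨k, hk⟩ : ∃ k : Fin 3 → F, k = fun y => 3 * K y y := ⟨_, rfl⟩
  have hinv : ((gD ω)⁻¹ : G3).val = dm (ω.μ * ω.μ) := by
    refine left_inv_eq_right_inv (a := (gD ω : M3)) (Units.inv_mul _) ?_
    rw [val_gD, dm_mul, ← mul_assoc, ω.cube, dm_one]
  have hsum : K + (gD ω : M3) * K * ((gD ω)⁻¹ : G3).val +
      (gD ω : M3) * ((gD ω : M3) * K * ((gD ω)⁻¹ : G3).val) * ((gD ω)⁻¹ : G3).val = Matrix.diagonal k := by
    rw [hinv, val_gD, dm, dm]
    ext i j
    simp only [Matrix.add_apply, Matrix.mul_diagonal, Matrix.diagonal_mul, hk, Matrix.diagonal_apply]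
    fin_cases i <;> fin_cases j <;> simp <;> grind [ω.cube, ω.eq]
  rw [hsum] at e
  obtain ⟨g, hg⟩ : ∃ g : Fin 3 → G3, ∀ y, (g y : M3) = 1 + k y • A := by
    have hmul : ∀ a b : F, a + b = 0 → (1 + a • A) * (1 + b • A) = (1 : M3) := fun a b h => by
      rw [add_mul, one_mul, mul_add, mul_one, Matrix.smul_mul, Matrix.mul_smul, hA, smul_zero, smul_zero, add_zero,
        add_assoc, ← add_smul, add_comm b, h, zero_smul, add_zero]
    exact ⟨fun y => ⟨1 + k y • A, 1 + (-k y) • A, hmul _ _ (add_neg_cancel _), hmul _ _ (neg_add_cancel _)⟩, fun y => rfl⟩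
  have hgbd : bd g = u * v * w := by
    refine Units.ext (Matrix.ext fun ⟨y, i⟩ ⟨z, j⟩ => ?_)
    rw [e, bd_apply, hg, Matrix.add_apply, Matrix.add_apply, Matrix.smul_apply, Matrix.kroneckerMap_apply,
      Matrix.diagonal_apply, smul_eq_mul]
    by_cases h : y = z
    · subst h; simp [Matrix.one_apply, Prod.ext_iff]
    · simp [h, Matrix.one_apply, Prod.ext_iff]
  refine ⟨g, mem_Ks.2 ⟨hgbd ▸ mul_mem (mul_mem huH hvH) hwH, fun y => by rw [hg]; exact det_unip hA _⟩, ?_, fun h => ?_⟩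
  · rw [hg, add_sub_cancel_left, Matrix.smul_mul, Matrix.mul_smul, hA, smul_zero, smul_zero]
  · have h' := congrArg Units.val h
    rw [hg, Units.val_one, add_eq_left, smul_eq_zero] at h'
    rcases h' with h' | h'
    · rw [hk] at h'
      exact hx ((mul_eq_zero.1 h').resolve_left ω.three)
    · exact hA0 h'

/-! ### No transvection normalises the extraspecial group -/

theorem trace_noncentral {k : G3} (hk : k ∈ gR ω) (hc : k ∉ Z3) : (k : M3).trace = 0 := by
  obtain ⟨i, j, l, rfl⟩ := exists_nf ω hk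
  rw [nf_central] at hc
  rw [nf, Units.val_mul, Units.val_mul, val_gZ_pow, Matrix.smul_mul, one_mul, Matrix.trace_smul, val_gD_pow,
    Units.val_pow_eq_pow_val, val_gS,
    pow_eq_pow_mod j (show (sm : M3) ^ 3 = 1 by rw [← val_gS, ← Units.val_pow_eq_pow_val, gS_pow_three, Units.val_one]),
    pow_eq_pow_mod l (show ω.μ ^ 3 = 1 by rw [pow_succ, sq]; exact ω.cube)]
  have hj : j % 3 < 3 := Nat.mod_lt _ (by norm_num)
  have hl : l % 3 < 3 := Nat.mod_lt _ (by norm_num)
  interval_cases hjv : j % 3 <;> interval_cases hlv : l % 3 <;>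
    simp [hjv, hlv] at hc <;>
    simp [Matrix.trace, Fin.sum_univ_three, sm, dm, pow_two, Matrix.mul_apply, Matrix.vecMul_diagonal] <;>
    right <;> grind [ω.cube, ω.eq]

theorem transv_not_mem {u : G3} (hu : u ∈ N3) (h2 : ((u : M3) - 1) * ((u : M3) - 1) = 0) : u = 1 := by
  obtain ⟨N, hN⟩ : ∃ N, N = (u : M3) - 1 := ⟨_, rfl⟩
  rw [← hN] at h2
  have hpow : ∀ n : ℕ, ((u ^ n : G3) : M3) = 1 + (n : F) • N := fun n => by
    induction n with
    | zero => simp
    | succ n ih =>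
      rw [pow_succ, Units.val_mul, ih, show (u : M3) = 1 + N by rw [hN]; abel, mul_add, mul_one, add_mul, one_mul,
        Matrix.smul_mul, h2, smul_zero, add_zero, Nat.cast_succ, add_smul, one_smul, add_assoc]
  have hu5 : u ^ 5 = 1 := Units.ext (by
    rw [hpow, show ((5 : ℕ) : F) = 0 from CharP.cast_eq_zero F 5, zero_smul, add_zero, Units.val_one])
  have key : ∀ r ∈ gR ω, r ∉ Z3 → N * (r : M3) = (r : M3) * N := by
    intro r hr hrc
    obtain ⟨k, hk⟩ : ∃ k : ℕ → G3, ∀ n, k n = u ^ n * r * (u ^ n)⁻¹ := ⟨_, fun n => rfl⟩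
    have hkR : ∀ n, k n ∈ gR ω := fun n => hk n ▸ (Subgroup.mem_normalizer_iff.1 (pow_mem hu n) r).1 hr
    have hkv : ∀ n : ℕ, (k n : M3) = (r : M3) + (n : F) • (N * r - r * N) - ((n : F) * n) • (N * r * N) := fun n => by
      have hi : (((u ^ n)⁻¹ : G3) : M3) = 1 - (n : F) • N := by
        refine left_inv_eq_right_inv (a := ((u ^ n : G3) : M3)) (Units.inv_mul _) ?_
        rw [hpow, add_mul, one_mul, Matrix.smul_mul, mul_sub, mul_one, Matrix.mul_smul, h2, smul_zero, sub_zero,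
          sub_add_cancel]
      rw [hk, Units.val_mul, Units.val_mul, hpow, hi]
      simp only [add_mul, mul_sub, one_mul, mul_one, Matrix.smul_mul, Matrix.mul_smul, smul_smul, smul_sub, mul_assoc]
      abel
    by_cases hfix : ∃ j : ℕ, (j = 1 ∨ j = 2 ∨ j = 3) ∧ k j * r⁻¹ ∈ Z3
    · obtain ⟨j, hj, hz⟩ := hfix
      obtain ⟨z, hzd⟩ : ∃ z, z = k j * r⁻¹ := ⟨_, rfl⟩
      rw [← hzd] at hz
      have e : u ^ j * r * (u ^ j)⁻¹ = z * r := by rw [← hk, hzd, inv_mul_cancel_right]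
      have hm : ∀ m : ℕ, (u ^ j) ^ m * r * ((u ^ j) ^ m)⁻¹ = z ^ m * r := fun m => by
        induction m with
        | zero => simp
        | succ m ih =>
          calc (u ^ j) ^ (m + 1) * r * ((u ^ j) ^ (m + 1))⁻¹
              = u ^ j * ((u ^ j) ^ m * r * ((u ^ j) ^ m)⁻¹) * (u ^ j)⁻¹ := by rw [pow_succ']; group
            _ = u ^ j * z ^ m * r * (u ^ j)⁻¹ := by rw [ih]; group
            _ = z ^ m * (u ^ j * r * (u ^ j)⁻¹) := by
              rw [Subgroup.mem_center_iff.1 (pow_mem hz m) (u ^ j)]; group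
            _ = _ := by rw [e, ← mul_assoc, pow_succ]
      have h5 := hm 5
      rw [← pow_mul, mul_comm, pow_mul, hu5, one_pow, one_mul, inv_one, mul_one, eq_comm, mul_eq_right] at h5
      have hzR : z ∈ gR ω := hzd ▸ mul_mem (hkR j) (inv_mem hr)
      have hz1 : z = 1 := by
        have h3 := gR_cube ω hzR
        have := (pow_gcd_eq_one (a := z) (m := 5) (n := 3)).2 ⟨h5, h3⟩
        simpa using this
      rw [hz1, one_mul, mul_inv_eq_iff_eq_mul] at e
      have e' := congrArg Units.val e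
      rw [Units.val_mul, Units.val_mul, hpow, add_mul, one_mul, mul_add, mul_one, add_right_inj, Matrix.smul_mul,
        Matrix.mul_smul] at e'
      exact smul_right_injective M3 (natCast_ne j (by omega)) e'
    · exfalso
      push Not at hfix
      have ht : ∀ j : ℕ, (j = 1 ∨ j = 2 ∨ j = 3) → ((k j : M3) * ((r⁻¹ : G3) : M3)).trace = 0 := fun j hj => by
        rw [← Units.val_mul]; exact trace_noncentral ω (mul_mem (hkR j) (inv_mem hr)) (hfix j hj)
      have hrel : (k 3 : M3) - (3 : F) • (k 2 : M3) + (3 : F) • (k 1 : M3) - (r : M3) = 0 := by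
        rw [hkv, hkv, hkv]
        push_cast
        module
      have h := congrArg (fun M : M3 => (M * ((r⁻¹ : G3) : M3)).trace) hrel
      simp only [sub_mul, add_mul, Matrix.smul_mul, Matrix.trace_sub, Matrix.trace_add, Matrix.trace_smul,
        ht 1 (Or.inl rfl), ht 2 (Or.inr (Or.inl rfl)), ht 3 (Or.inr (Or.inr rfl)), smul_zero, Units.mul_inv,
        Matrix.trace_one, Fintype.card_fin, Matrix.zero_mul, Matrix.trace_zero, zero_sub, sub_zero, add_zero, neg_eq_zero] at h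
      exact ω.three (by exact_mod_cast h)
  have hDc : (gD ω : G3) ∉ Z3 := by rw [← nf_gD ω, nf_central]; omega
  have hSc : (gS : G3) ∉ Z3 := by rw [← nf_gS ω, nf_central]; omega
  have hs := eq_smul_of_commute ω (M := N) (by simpa [val_gD] using key _ (gD_mem ω) hDc)
    (by simpa [val_gS] using key _ (gS_mem ω) hSc)
  rw [hs, Matrix.smul_mul, Matrix.mul_smul, one_mul, smul_smul, smul_eq_zero] at h2
  have h0 : N 0 0 = 0 := mul_self_eq_zero.1 (h2.resolve_right one_ne_zero)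
  rw [h0, zero_smul, hN, sub_eq_zero] at hs
  exact Units.ext (hs.trans Units.val_one.symm)

end CfsgLib.Perm.Trans.ThreeDim.Nine.Five
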